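import Mathlib
import Cfsg.Agent.Lib.Char.Exceptional.AltMultiplier

/-!
# Central extensions with elementary abelian kernel over root data of type `A₂` over four elements

If a group has three families `X`, `Y`, `W` of root elements over a field of four elements as in the
Sylow 2-subgroup of `PSL(3, 4)`, a torus element and two Weyl elements, then the kernel of a stem
extension with kernel of exponent two has at most four elements.
-/

set_option autoImplicit false

namespace CfsgLib.Known.L34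

open scoped commutatorElement

universe u v w

/-- Root data. -/
structure Data (F : Type u) [Field F] (G : Type v) [Group G] where
  two : (2 : F) = 0
  c : F
  c_sq : c * c = c + 1
  cases : ∀ x : F, x = 0 ∨ x = 1 ∨ x = c ∨ x = c + 1
  X : F → G
  Y : F → G
  W : F → G
  X_add : ∀ s t, X s * X t = X (s + t)
  Y_add : ∀ s t, Y s * Y t = Y (s + t)
  W_add : ∀ s t, W s * W t = W (s + t)
  XY : ∀ a b, ⁅X a, Y b⁆ = W (a * b)
  XW : ∀ a t, ⁅X a, W t⁆ = 1
  YW : ∀ b t, ⁅Y b, W t⁆ = 1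
  h : G
  hX : ∀ t, h * X t * h⁻¹ = X ((c + 1) * t)
  hY : ∀ t, h * Y t * h⁻¹ = Y ((c + 1) * t)
  hW : ∀ t, h * W t * h⁻¹ = W (c * t)
  n : G
  nX : ∀ t, n * X t * n⁻¹ = W t
  m : G
  mW : ∀ t, m * W t * m⁻¹ = Y t
  W_inj : ∀ t, W t = 1 → t = 0
  index : ¬ 2 ∣ (Subgroup.closure (Set.range X ∪ Set.range Y ∪ Set.range W)).index

variable {F : Type u} [Field F] {G : Type v} [Group G] {Γ : Type w} [Group Γ]

/-- Commutators of lifts depend only on the images. -/
theorem comm_lift (σ : Γ →* G) (hc : σ.ker ≤ Subgroup.center Γ) {a a' b b' : Γ} (ha : σ a = σ a')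
    (hb : σ b = σ b') : ⁅a, b⁆ = ⁅a', b'⁆ := by
  have h1 : a'⁻¹ * a ∈ σ.ker := by rw [MonoidHom.mem_ker, map_mul, map_inv, ha, inv_mul_cancel]
  have h2 : b'⁻¹ * b ∈ σ.ker := by rw [MonoidHom.mem_ker, map_mul, map_inv, hb, inv_mul_cancel]
  obtain ⟨z, hz, rfl⟩ : ∃ z ∈ σ.ker, a = a' * z := ⟨_, h1, by group⟩
  obtain ⟨y, hy, rfl⟩ : ∃ y ∈ σ.ker, b = b' * y := ⟨_, h2, by group⟩
  have hzc := Subgroup.mem_center_iff.1 (hc hz)
  have hyc := Subgroup.mem_center_iff.1 (hc hy)
  simp only [commutatorElement_def, mul_inv_rev]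
  calc a' * z * (b' * y) * (z⁻¹ * a'⁻¹) * (y⁻¹ * b'⁻¹)
      = a' * (z * (b' * y)) * z⁻¹ * a'⁻¹ * (y⁻¹ * b'⁻¹) := by group
    _ = a' * (b' * y * z) * z⁻¹ * a'⁻¹ * (y⁻¹ * b'⁻¹) := by rw [← hzc]
    _ = a' * b' * (y * a'⁻¹) * y⁻¹ * b'⁻¹ := by group
    _ = a' * b' * (a'⁻¹ * y) * y⁻¹ * b'⁻¹ := by rw [← hyc]
    _ = a' * b' * a'⁻¹ * b'⁻¹ := by group

theorem mul_left_eq {α : Type*} [Group α] (a a' b : α) : ⁅a * a', b⁆ = a * ⁅a', b⁆ * a⁻¹ * ⁅a, b⁆ := by
  simp only [commutatorElement_def]; group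

theorem mul_right_eq {α : Type*} [Group α] (a b b' : α) : ⁅a, b * b'⁆ = ⁅a, b⁆ * (b * ⁅a, b'⁆ * b⁻¹) := by
  simp only [commutatorElement_def]; group

namespace Data

variable (D : Data F G)

include D in
theorem add_self' (x : F) : x + x = 0 := by linear_combination x * D.two

theorem c_ne : D.c ≠ 0 ∧ D.c + 1 ≠ 0 := by
  constructor
  · intro h
    have := D.c_sq
    rw [h] at this
    simp at this
  · intro h
    have h1 : D.c * D.c = 0 := by rw [D.c_sq, h]
    have h2 : D.c = 0 := mul_self_eq_zero.1 h1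
    rw [h2] at h
    simp at h

theorem X_zero : D.X 0 = 1 := by simpa using D.X_add 0 0
theorem Y_zero : D.Y 0 = 1 := by simpa using D.Y_add 0 0
theorem W_zero : D.W 0 = 1 := by simpa using D.W_add 0 0

theorem W_self (t : F) : D.W t * D.W t = 1 := by rw [D.W_add, D.add_self', D.W_zero]

variable (σ : Γ →* G) (hs : Function.Surjective σ) (hc : σ.ker ≤ Subgroup.center Γ)
  (he : ∀ z ∈ σ.ker, z * z = 1)

/-- A fixed lift. -/
noncomputable def lift (g : G) : Γ := Function.surjInv hs g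

theorem σ_lift (g : G) : σ (lift σ hs g) = g := Function.surjInv_eq hs g

include hc he

theorem sq_lift {a a' : Γ} (ha : σ a = σ a') : a * a = a' * a' := by
  have h1 : a'⁻¹ * a ∈ σ.ker := by rw [MonoidHom.mem_ker, map_mul, map_inv, ha, inv_mul_cancel]
  obtain ⟨z, hz, rfl⟩ : ∃ z ∈ σ.ker, a = a' * z := ⟨_, h1, by group⟩
  calc a' * z * (a' * z) = a' * (z * a') * z := by group
    _ = a' * (a' * z) * z := by rw [← Subgroup.mem_center_iff.1 (hc hz) a']
    _ = a' * a' * (z * z) := by group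
    _ = a' * a' := by rw [he z hz, mul_one]

/-- Conjugates have the same square, when it lies in the kernel. -/
theorem sq_conj {a b d : Γ} (hd : σ d * σ a * (σ d)⁻¹ = σ b) (h1 : σ a * σ a = 1) : b * b = a * a := by
  have hk : a * a ∈ σ.ker := by rw [MonoidHom.mem_ker, map_mul, h1]
  rw [sq_lift σ hc he (a := b) (a' := d * a * d⁻¹) (by rw [map_mul, map_mul, map_inv, hd])]
  calc d * a * d⁻¹ * (d * a * d⁻¹) = d * (a * a) * d⁻¹ := by group
    _ = a * a := by rw [Subgroup.mem_center_iff.1 (hc hk), mul_inv_cancel_right]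

include hs

/-- All lifts of root elements square to one. -/
theorem squares {a : Γ} (t : F) (ha : σ a = D.X t ∨ σ a = D.Y t ∨ σ a = D.W t) : a * a = 1 := by
  set l := lift σ hs
  have hl : ∀ g, σ (l g) = g := σ_lift σ hs
  have hsX : ∀ t, σ (l (D.X t)) * σ (l (D.X t)) = 1 := fun t => by rw [hl, D.X_add, D.add_self', D.X_zero]
  have hsW : ∀ t, σ (l (D.W t)) * σ (l (D.W t)) = 1 := fun t => by rw [hl, D.W_self]
  set q : F → Γ := fun t => l (D.W t) * l (D.W t) with hq
  have hqk : ∀ t, q t ∈ σ.ker := fun t => by rw [MonoidHom.mem_ker, map_mul]; exact hsW t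
  have hXW : ∀ t, q t = l (D.X t) * l (D.X t) := fun t =>
    sq_conj σ hc he (d := l D.n) (by rw [hl, hl, hl, D.nX]) (hsX t)
  have hYW : ∀ t, l (D.Y t) * l (D.Y t) = q t := fun t =>
    sq_conj σ hc he (d := l D.m) (by rw [hl, hl, hl, D.mW]) (hsW t)
  have hscale : ∀ t, q (D.c * t) = q t := fun t =>
    sq_conj σ hc he (d := l D.h) (by rw [hl, hl, hl, D.hW]) (hsW t)
  -- the commutator with a root element of the centre
  have hP : ∀ a b : F, ⁅l (D.X a), l (D.W (a * b))⁆ = q (a * b) := by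
    intro a b
    set x := l (D.X a)
    set y := l (D.Y b)
    set u := ⁅x, y⁆ with hu
    have hu' : σ u = D.W (a * b) := by rw [hu, map_commutatorElement, hl, hl, D.XY]
    have hxx : x * x ∈ σ.ker := by rw [MonoidHom.mem_ker, map_mul]; exact hsX a
    have h1 : ⁅x * x, y⁆ = 1 := commutatorElement_eq_one_iff_mul_comm.2 (Subgroup.mem_center_iff.1 (hc hxx) y).symm
    rw [mul_left_eq] at h1
    have huu : q (a * b) = u * u := sq_lift σ hc he (by rw [hl, hu'])
    rw [comm_lift σ hc (a' := x) (b' := u) rfl (by rw [hl, hu']), huu]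
    have h2 : x * u * x⁻¹ = u⁻¹ := eq_inv_of_mul_eq_one_left h1
    have h3 : u * u = (u * u)⁻¹ := eq_inv_of_mul_eq_one_left (he _ (huu ▸ hqk _))
    rw [h3, commutatorElement_def, mul_inv_rev, h2]
  have hone : ∀ t, q t = 1 := by
    have hq0 : q 0 = 1 := by
      have : l (D.W 0) ∈ σ.ker := by rw [MonoidHom.mem_ker, hl, D.W_zero]
      exact he _ this
    have hadd : ∀ s t, q (s + t) = q s * q t := by
      intro s t
      have hP' : ∀ t, ⁅l (D.X 1), l (D.W t)⁆ = q t := fun t => by have := hP 1 t; rwa [one_mul] at this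
      have e : ⁅l (D.X 1), l (D.W (s + t))⁆ = ⁅l (D.X 1), l (D.W s) * l (D.W t)⁆ :=
        comm_lift σ hc rfl (by rw [map_mul, hl, hl, hl, D.W_add])
      rw [← hP' (s + t), e, mul_right_eq, hP', hP', Subgroup.mem_center_iff.1 (hc (hqk t)), mul_inv_cancel_right]
    have h1 : q D.c = q 1 := by simpa using hscale 1
    have h2 : q (D.c + 1) = q 1 := by rw [← D.c_sq, hscale, h1]
    have h3 : q 1 = 1 := by
      have e := hadd D.c 1
      rw [h1, h2, he _ (hqk 1)] at e
      exact e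
    intro t
    rcases D.cases t with rfl | rfl | rfl | rfl
    · exact hq0
    · exact h3
    · rw [h1, h3]
    · rw [h2, h3]
  rcases ha with ha | ha | ha
  · rw [sq_lift σ hc he (ha.trans (hl _).symm), ← hXW, hone]
  · rw [sq_lift σ hc he (ha.trans (hl _).symm), hYW, hone]
  · rw [sq_lift σ hc he (ha.trans (hl _).symm)]; exact hone t

omit hc he hs in
theorem commute_of_sq {a b : Γ} (h1 : a * a = 1) (h2 : b * b = 1) (h3 : a * b * (a * b) = 1) : ⁅a, b⁆ = 1 := by
  rw [commutatorElement_def, inv_eq_of_mul_eq_one_left h1, inv_eq_of_mul_eq_one_left h2]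
  calc a * b * a * b = a * b * (a * b) := by group
    _ = 1 := h3

theorem comm_same {a b : Γ} (s t : F) (h : (σ a = D.X s ∧ σ b = D.X t) ∨ (σ a = D.Y s ∧ σ b = D.Y t) ∨
    (σ a = D.W s ∧ σ b = D.W t)) : ⁅a, b⁆ = 1 := by
  rcases h with ⟨h1, h2⟩ | ⟨h1, h2⟩ | ⟨h1, h2⟩
  · exact commute_of_sq (D.squares σ hs hc he s (Or.inl h1)) (D.squares σ hs hc he t (Or.inl h2))
      (D.squares σ hs hc he (s + t) (Or.inl (by rw [map_mul, h1, h2, D.X_add])))
  · exact commute_of_sq (D.squares σ hs hc he s (Or.inr (Or.inl h1))) (D.squares σ hs hc he t (Or.inr (Or.inl h2)))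
      (D.squares σ hs hc he (s + t) (Or.inr (Or.inl (by rw [map_mul, h1, h2, D.Y_add]))))
  · exact commute_of_sq (D.squares σ hs hc he s (Or.inr (Or.inr h1))) (D.squares σ hs hc he t (Or.inr (Or.inr h2)))
      (D.squares σ hs hc he (s + t) (Or.inr (Or.inr (by rw [map_mul, h1, h2, D.W_add]))))

theorem comm_XW {a u : Γ} (s t : F) (ha : σ a = D.X s) (hu : σ u = D.W t) : ⁅a, u⁆ = 1 := by
  by_cases hs0 : s = 0
  · subst hs0
    exact commutatorElement_eq_one_iff_mul_comm.2
      (Subgroup.mem_center_iff.1 (hc (by rw [MonoidHom.mem_ker, ha, D.X_zero])) u).symm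
  set y := lift σ hs (D.Y (t / s))
  have hy : σ y = D.Y (t / s) := σ_lift σ hs _
  have hu' : σ ⁅a, y⁆ = D.W t := by rw [map_commutatorElement, ha, hy, D.XY, mul_div_cancel₀ _ hs0]
  rw [comm_lift σ hc (a' := a) (b' := ⁅a, y⁆) rfl (by rw [hu, hu'])]
  have h1 : ⁅a * a, y⁆ = 1 := by rw [D.squares σ hs hc he s (Or.inl ha)]; exact commutatorElement_one_left y
  rw [mul_left_eq] at h1
  rw [commutatorElement_def a, eq_inv_of_mul_eq_one_left h1, ← mul_inv_rev,
    D.squares σ hs hc he t (Or.inr (Or.inr hu')), inv_one]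

theorem comm_YW {b u : Γ} (s t : F) (hb : σ b = D.Y s) (hu : σ u = D.W t) : ⁅b, u⁆ = 1 := by
  by_cases hs0 : s = 0
  · subst hs0
    exact commutatorElement_eq_one_iff_mul_comm.2
      (Subgroup.mem_center_iff.1 (hc (by rw [MonoidHom.mem_ker, hb, D.Y_zero])) u).symm
  set x := lift σ hs (D.X (t / s))
  have hx : σ x = D.X (t / s) := σ_lift σ hs _
  set w := ⁅x, b⁆ with hw
  have hw' : σ w = D.W t := by rw [hw, map_commutatorElement, hx, hb, D.XY, div_mul_cancel₀ _ hs0]
  rw [comm_lift σ hc (a' := b) (b' := w) rfl (by rw [hu, hw'])]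
  have hbb : b * b = 1 := D.squares σ hs hc he s (Or.inr (Or.inl hb))
  have h1 : ⁅x, b * b⁆ = 1 := by rw [hbb]; exact commutatorElement_one_right x
  rw [mul_right_eq] at h1
  have h2 : b * w * b⁻¹ = w⁻¹ := eq_inv_of_mul_eq_one_right h1
  rw [commutatorElement_def b, h2, ← mul_inv_rev, D.squares σ hs hc he t (Or.inr (Or.inr hw')), inv_one]

include D in
/-- The kernel of a stem extension with kernel of exponent two has at most four elements. -/
theorem card_ker_le [Finite Γ] (hd : σ.ker ≤ commutator Γ) : Nat.card σ.ker ≤ 4 := by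
  classical
  have hl : ∀ g, σ (lift σ hs g) = g := σ_lift σ hs
  set l := lift σ hs
  have hker : ∀ {z : Γ}, z ∈ σ.ker → ∀ g, g * z = z * g := fun hz => Subgroup.mem_center_iff.1 (hc hz)
  obtain ⟨hc0, hc1⟩ := D.c_ne
  -- the canonical lift of the central root group
  set e : F → Γ := fun t => ⁅l D.h, l (D.W (t * D.c))⁆ with he'
  have hcc : (D.c + 1) * D.c = 1 := by linear_combination D.c_sq + D.c * D.two
  have heσ : ∀ t, σ (e t) = D.W t := by
    intro t
    rw [he', map_commutatorElement, hl, hl, commutatorElement_def, D.hW,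
      inv_eq_of_mul_eq_one_left (D.W_self (t * D.c)), D.W_add,
      show D.c * (t * D.c) + t * D.c = t by linear_combination t * (D.c_sq + D.c * D.two)]
  have headd : ∀ s t, e (s + t) = e s * e t := by
    intro s t
    have e1 : e (s + t) = ⁅l D.h, l (D.W (s * D.c)) * l (D.W (t * D.c))⁆ :=
      comm_lift σ hc rfl (by rw [map_mul, hl, hl, hl, D.W_add, add_mul])
    rw [e1, mul_right_eq]
    have h1 := D.comm_same σ hs hc he (s * D.c) t (a := l (D.W (s * D.c))) (b := e t)
      (Or.inr (Or.inr ⟨hl _, heσ t⟩))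
    rw [(commutatorElement_eq_one_iff_mul_comm.1 h1), mul_inv_cancel_right]
  have heq : ∀ t, l D.h * e t * (l D.h)⁻¹ = e (D.c * t) := by
    intro t
    rw [he']
    simp only
    rw [show l D.h * ⁅l D.h, l (D.W (t * D.c))⁆ * (l D.h)⁻¹ =
      ⁅l D.h, l D.h * l (D.W (t * D.c)) * (l D.h)⁻¹⁆ by simp only [commutatorElement_def]; group]
    exact comm_lift σ hc rfl (by rw [map_mul, map_mul, map_inv, hl, hl, D.hW, hl, mul_assoc])
  -- the bilinear part
  set H : F → F → Γ := fun a b => ⁅l (D.X a), l (D.Y b)⁆ * e (a * b) with hH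
  have hHk : ∀ a b, H a b ∈ σ.ker := fun a b => by
    rw [MonoidHom.mem_ker, hH, map_mul, map_commutatorElement, hl, hl, heσ, D.XY, D.W_self]
  have hee : ∀ t, e t * e t = 1 := fun t => D.squares σ hs hc he t (Or.inr (Or.inr (heσ t)))
  have hcomm_eq : ∀ a b, ⁅l (D.X a), l (D.Y b)⁆ = H a b * e (a * b) := fun a b => by
    rw [hH]; simp only; rw [mul_assoc, hee, mul_one]
  have hHdef : ∀ a b, H a b = ⁅l (D.X a), l (D.Y b)⁆ * e (a * b) := fun a b => rfl
  clear_value H
  have hHadd : ∀ a a' b, H (a + a') b = H a b * H a' b := by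
    intro a a' b
    have e1 : ⁅l (D.X (a + a')), l (D.Y b)⁆ = ⁅l (D.X a) * l (D.X a'), l (D.Y b)⁆ :=
      comm_lift σ hc (by rw [map_mul, hl, hl, hl, D.X_add]) rfl
    have hu : σ ⁅l (D.X a'), l (D.Y b)⁆ = D.W (a' * b) := by rw [map_commutatorElement, hl, hl, D.XY]
    rw [mul_left_eq, commutatorElement_eq_one_iff_mul_comm.1 (D.comm_XW σ hs hc he a (a' * b) (hl _) hu),
      mul_inv_cancel_right, hcomm_eq a', hcomm_eq a] at e1
    rw [hHdef, e1, add_mul, headd]
    have hk := hker (hHk a b)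
    calc H a' b * e (a' * b) * (H a b * e (a * b)) * (e (a * b) * e (a' * b))
        = H a' b * e (a' * b) * H a b * (e (a * b) * e (a * b)) * e (a' * b) := by group
      _ = H a' b * (e (a' * b) * H a b) * e (a' * b) := by rw [hee]; group
      _ = H a' b * (H a b * e (a' * b)) * e (a' * b) := by rw [hk]
      _ = H a' b * H a b := by rw [mul_assoc, mul_assoc, hee, mul_one]
      _ = H a b * H a' b := hk _
  have hHadd' : ∀ a b b', H a (b + b') = H a b * H a b' := by
    intro a b b'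
    have e1 : ⁅l (D.X a), l (D.Y (b + b'))⁆ = ⁅l (D.X a), l (D.Y b) * l (D.Y b')⁆ :=
      comm_lift σ hc rfl (by rw [map_mul, hl, hl, hl, D.Y_add])
    have hu : σ ⁅l (D.X a), l (D.Y b')⁆ = D.W (a * b') := by rw [map_commutatorElement, hl, hl, D.XY]
    rw [mul_right_eq, commutatorElement_eq_one_iff_mul_comm.1 (D.comm_YW σ hs hc he b (a * b') (hl _) hu),
      mul_inv_cancel_right, hcomm_eq a b, hcomm_eq a b'] at e1
    rw [hHdef, e1, mul_add, add_comm (a * b), headd]
    have hk := hker (hHk a b')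
    calc H a b * e (a * b) * (H a b' * e (a * b')) * (e (a * b') * e (a * b))
        = H a b * e (a * b) * H a b' * (e (a * b') * e (a * b')) * e (a * b) := by group
      _ = H a b * (e (a * b) * H a b') * e (a * b) := by rw [hee]; group
      _ = H a b * (H a b' * e (a * b)) * e (a * b) := by rw [hk]
      _ = H a b * H a b' := by rw [mul_assoc, mul_assoc, hee, mul_one]
  have hscale : ∀ a b, H ((D.c + 1) * a) ((D.c + 1) * b) = H a b := by
    intro a b
    have e1 : ⁅l (D.X ((D.c + 1) * a)), l (D.Y ((D.c + 1) * b))⁆ =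
        l D.h * ⁅l (D.X a), l (D.Y b)⁆ * (l D.h)⁻¹ := by
      rw [show l D.h * ⁅l (D.X a), l (D.Y b)⁆ * (l D.h)⁻¹ =
        ⁅l D.h * l (D.X a) * (l D.h)⁻¹, l D.h * l (D.Y b) * (l D.h)⁻¹⁆ by simp only [commutatorElement_def]; group]
      exact comm_lift σ hc (by simp only [map_mul, map_inv, hl, D.hX]) (by simp only [map_mul, map_inv, hl, D.hY])
    rw [hHdef, e1,
      show (D.c + 1) * a * ((D.c + 1) * b) = D.c * (a * b) by
        linear_combination (a * b) * (D.c_sq + (D.c + 1) * D.two), ← heq, conj_mul, ← hHdef]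
    rw [hker (hHk a b), mul_inv_cancel_right]
  set α := H 1 1 with hα
  set β := H 1 D.c with hβ
  set S : Set Γ := {1, α, β, α * β} with hS
  have hrow : ∀ b, H 1 b ∈ S := by
    intro b
    have h0 : H 1 0 = 1 := by
      have := hHadd' 1 0 0
      rw [add_zero] at this
      exact left_eq_mul.1 this
    rcases D.cases b with rfl | rfl | rfl | rfl
    · rw [h0, hS]; simp
    · rw [hS]; simp [hα]
    · rw [hS]; simp [hβ]
    · rw [hHadd', hker (hHk 1 1), hS]; simp [hα, hβ]
  have hall : ∀ a b, H a b ∈ S := by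
    intro a b
    rcases D.cases a with rfl | rfl | rfl | rfl
    · have : H 0 b = 1 := by
        have := hHadd 0 0 b
        rw [add_zero] at this
        exact left_eq_mul.1 this
      rw [this, hS]; simp
    · exact hrow b
    · rw [← hscale, show (D.c + 1) * D.c = 1 from hcc]; exact hrow _
    · rw [← hscale, ← hscale, show (D.c + 1) * ((D.c + 1) * (D.c + 1)) = 1 by
        linear_combination (D.c + 4) * D.c_sq + (4 * D.c + 2) * D.two]
      exact hrow _
  have hαk : α ∈ σ.ker := hHk _ _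
  have hβk : β ∈ σ.ker := hHk _ _
  have hSk : ∀ z ∈ S, z ∈ σ.ker := by
    intro z hz
    rw [hS] at hz
    simp only [Set.mem_insert_iff, Set.mem_singleton_iff] at hz
    rcases hz with rfl | rfl | rfl | rfl
    exacts [one_mem _, hαk, hβk, mul_mem hαk hβk]
  have hSmul : ∀ z ∈ S, ∀ y ∈ S, z * y ∈ S := by
    have hba : β * α = α * β := hker hαk β
    have ha2 := he α hαk
    have hb2 := he β hβk
    have q1 : α * (α * β) = β := by rw [← mul_assoc, ha2, one_mul]
    have q2 : β * (α * β) = α := by rw [← mul_assoc, hba, mul_assoc, hb2, mul_one]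
    have q3 : α * β * α = β := by rw [mul_assoc, hba, q1]
    have q4 : α * β * β = α := by rw [mul_assoc, hb2, mul_one]
    have q5 : α * β * (α * β) = 1 := he _ (mul_mem hαk hβk)
    intro z hz y hy
    rw [hS] at hz hy ⊢
    simp only [Set.mem_insert_iff, Set.mem_singleton_iff] at hz hy ⊢
    rcases hz with rfl | rfl | rfl | rfl <;> rcases hy with rfl | rfl | rfl | rfl <;>
      simp [ha2, hb2, hba, q1, q2, q3, q4, q5]
  -- the subgroup containing the derived group of the Sylow preimage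
  let M : Subgroup Γ :=
    { carrier := {g | ∃ t, ∃ z ∈ S, g = e t * z}
      one_mem' := ⟨0, 1, by simp [hS], by
        have := headd 0 0
        rw [add_zero] at this
        rw [left_eq_mul.1 this, one_mul]⟩
      mul_mem' := by
        rintro _ _ ⟨t, z, hz, rfl⟩ ⟨t', z', hz', rfl⟩
        refine ⟨t + t', z * z', hSmul z hz z' hz', ?_⟩
        calc e t * z * (e t' * z') = e t * (z * e t') * z' := by group
          _ = e t * (e t' * z) * z' := by rw [← hker (hSk z hz)]
          _ = _ := by rw [headd]; group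
      inv_mem' := by
        rintro _ ⟨t, z, hz, rfl⟩
        refine ⟨t, z, hz, ?_⟩
        rw [mul_inv_rev, inv_eq_of_mul_eq_one_left (he z (hSk z hz)), inv_eq_of_mul_eq_one_left (hee t),
          hker (hSk z hz)] }
  have heM : ∀ t, e t ∈ M := fun t => ⟨t, 1, by simp [hS], by rw [mul_one]⟩
  set R := Set.range D.X ∪ Set.range D.Y ∪ Set.range D.W with hR
  set T : Set Γ := σ ⁻¹' (R ∪ {1}) with hT
  have hPT : (Subgroup.closure R).comap σ ≤ Subgroup.closure T := by
    intro g hg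
    have hRT : R ⊆ σ '' T := fun r hr => ⟨l r, Or.inl (by rw [hl]; exact hr), hl r⟩
    have : σ g ∈ (Subgroup.closure T).map σ := by
      rw [MonoidHom.map_closure]
      exact Subgroup.closure_mono hRT hg
    obtain ⟨g', hg', hgg'⟩ := this
    have hk : g'⁻¹ * g ∈ T := Or.inr (by rw [Set.mem_singleton_iff, map_mul, map_inv, hgg', inv_mul_cancel])
    rw [show g = g' * (g'⁻¹ * g) by group]
    exact mul_mem hg' (Subgroup.subset_closure hk)
  have hcases : ∀ g ∈ T, g ∈ σ.ker ∨ (∃ t, σ g = D.X t) ∨ (∃ t, σ g = D.Y t) ∨ (∃ t, σ g = D.W t) := by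
    rintro g (((⟨t, ht⟩ | ⟨t, ht⟩) | ⟨t, ht⟩) | h1)
    exacts [Or.inr (Or.inl ⟨t, ht.symm⟩), Or.inr (Or.inr (Or.inl ⟨t, ht.symm⟩)),
      Or.inr (Or.inr (Or.inr ⟨t, ht.symm⟩)), Or.inl h1]
  have hcent : Subgroup.closure T ≤ Subgroup.centralizer (M : Set Γ) := by
    rw [Subgroup.closure_le]
    intro g hg
    rw [SetLike.mem_coe, Subgroup.mem_centralizer_iff]
    rintro _ ⟨t, z, hz, rfl⟩
    have hge : g * e t = e t * g := by
      rcases hcases g hg with h | ⟨s, h⟩ | ⟨s, h⟩ | ⟨s, h⟩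
      · exact (hker h _).symm
      · exact commutatorElement_eq_one_iff_mul_comm.1 (D.comm_XW σ hs hc he s t h (heσ t))
      · exact commutatorElement_eq_one_iff_mul_comm.1 (D.comm_YW σ hs hc he s t h (heσ t))
      · exact commutatorElement_eq_one_iff_mul_comm.1
          (D.comm_same σ hs hc he s t (Or.inr (Or.inr ⟨h, heσ t⟩)))
    rw [mul_assoc, ← hker (hSk z hz), ← mul_assoc, ← hge, mul_assoc]
  have hgen : ∀ a ∈ T, ∀ b ∈ T, ⁅a, b⁆ ∈ M := by
    have h1 : ∀ {a b : Γ}, ⁅a, b⁆ = 1 → ⁅a, b⁆ ∈ M := fun h => by rw [h]; exact one_mem _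
    have hsym : ∀ {a b : Γ}, ⁅a, b⁆ ∈ M → ⁅b, a⁆ ∈ M := fun h => by
      rw [← commutatorElement_inv]; exact inv_mem h
    have hxy : ∀ a b : Γ, ∀ s t, σ a = D.X s → σ b = D.Y t → ⁅a, b⁆ ∈ M := by
      intro a b s t ha hb
      rw [comm_lift σ hc (a' := l (D.X s)) (b' := l (D.Y t)) (by rw [hl, ha]) (by rw [hl, hb]), hcomm_eq,
        ← hker (hHk s t)]
      exact ⟨s * t, _, hall s t, rfl⟩
    have hk1 : ∀ {a b : Γ}, b ∈ σ.ker → ⁅a, b⁆ = 1 := fun hb =>
      commutatorElement_eq_one_iff_mul_comm.2 (hker hb _)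
    intro a ha b hb
    rcases hcases a ha with h | ⟨s, h⟩ | ⟨s, h⟩ | ⟨s, h⟩ <;>
      rcases hcases b hb with h' | ⟨t, h'⟩ | ⟨t, h'⟩ | ⟨t, h'⟩
    all_goals first
      | exact h1 (hk1 h')
      | exact hsym (h1 (hk1 h))
      | exact hxy a b s t h h'
      | exact hsym (hxy b a t s h' h)
      | exact h1 (D.comm_XW σ hs hc he s t h h')
      | exact hsym (h1 (D.comm_XW σ hs hc he t s h' h))
      | exact h1 (D.comm_YW σ hs hc he s t h h')
      | exact hsym (h1 (D.comm_YW σ hs hc he t s h' h))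
      | exact h1 (D.comm_same σ hs hc he s t (Or.inl ⟨h, h'⟩))
      | exact h1 (D.comm_same σ hs hc he s t (Or.inr (Or.inl ⟨h, h'⟩)))
      | exact h1 (D.comm_same σ hs hc he s t (Or.inr (Or.inr ⟨h, h'⟩)))
  have hfix : ∀ g ∈ Subgroup.closure T, ∀ m ∈ M, g * m * g⁻¹ = m := fun g hg m hm => by
    rw [← Subgroup.mem_centralizer_iff.1 (hcent hg) m hm, mul_inv_cancel_right]
  have hstep : ∀ a : Γ, (∀ b ∈ T, ⁅a, b⁆ ∈ M) → ∀ b ∈ Subgroup.closure T, ⁅a, b⁆ ∈ M := by
    intro a ha b hb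
    induction hb using Subgroup.closure_induction with
    | mem x hx => exact ha x hx
    | one => rw [commutatorElement_one_right]; exact one_mem _
    | mul x y hx hy h1 h2 => rw [mul_right_eq, hfix x hx _ h2]; exact mul_mem h1 h2
    | inv x hx h1 =>
      rw [show ⁅a, x⁻¹⁆ = x⁻¹ * ⁅a, x⁆⁻¹ * x⁻¹⁻¹ by simp only [commutatorElement_def]; group,
        hfix _ (inv_mem hx) _ (inv_mem h1)]
      exact inv_mem h1
  have hderT : ∀ b ∈ Subgroup.closure T, ∀ a ∈ T, ⁅b, a⁆ ∈ M := fun b hb a ha => by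
    rw [← commutatorElement_inv]; exact inv_mem (hstep a (hgen a ha) b hb)
  have hder : ⁅(Subgroup.closure R).comap σ, (Subgroup.closure R).comap σ⁆ ≤ M :=
    Subgroup.commutator_le.2 fun a ha b hb => hstep a (hderT a (hPT ha)) b (hPT hb)
  have hsub : (σ.ker : Set Γ) ⊆ ({1, α, β, α * β} : Finset Γ) := by
    intro z hz
    have hzM : z ∈ M := CfsgLib.Char.Exceptional.AltMultiplier.mem_of_prime_pow _ (hc hz) (hd hz)
      Nat.prime_two (by rw [Subgroup.index_comap_of_surjective _ hs]; exact D.index) (k := 1)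
      (by rw [pow_one, sq]; exact he z hz) hder
    obtain ⟨t, y, hy, rfl⟩ := hzM
    have h1 := MonoidHom.mem_ker.1 hz
    rw [map_mul, heσ, MonoidHom.mem_ker.1 (hSk y hy), mul_one] at h1
    have h0 : e (0 : F) = 1 := by
      have := headd 0 0
      rw [add_zero] at this
      exact left_eq_mul.1 this
    rw [D.W_inj t h1, h0, one_mul]
    rw [hS] at hy
    simpa using hy
  calc Nat.card σ.ker = (σ.ker : Set Γ).ncard := Nat.card_coe_set_eq _
    _ ≤ (({1, α, β, α * β} : Finset Γ) : Set Γ).ncard := Set.ncard_le_ncard hsub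
    _ ≤ 4 := by rw [Set.ncard_coe_finset]; exact Finset.card_le_four

end Data

end CfsgLib.Known.L34
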