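import Mathlib
import Cfsg.Agent.Lib.Known.L34.Bound
import Cfsg.Agent.Lib.PGroups.Suzuki.LinearThreeFour

/-!
# Stem extensions of `PSL(3, 4)` with elementary abelian kernels
-/

set_option autoImplicit false

namespace CfsgLib.Known.L34

open scoped MatrixGroups commutatorElement
open CfsgLib.PGroups.Suzuki.LinearThreeFour (el el_mul el_zero el_comm)
open Matrix

universe u w

variable {F : Type u} [Field F] [Fintype F]

/-- A diagonal element. -/
def dia (c : F) (h : c * (c + 1) = 1) : SL(3, F) :=
  ⟨!![1, 0, 0; 0, c, 0; 0, 0, c + 1], by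
    simp [Matrix.det_fin_three]; linear_combination h⟩

/-- The permutation of the last two coordinates. -/
def swapLow (h : (2 : F) = 0) : SL(3, F) :=
  ⟨!![1, 0, 0; 0, 0, 1; 0, 1, 0], by simp [Matrix.det_fin_three]; linear_combination -h⟩

/-- The permutation of the first two coordinates. -/
def swapUp (h : (2 : F) = 0) : SL(3, F) :=
  ⟨!![0, 1, 0; 1, 0, 0; 0, 0, 1], by simp [Matrix.det_fin_three]; linear_combination -h⟩

theorem nonempty_data (hF : Fintype.card F = 4) :
    Nonempty (Data F (Matrix.ProjectiveSpecialLinearGroup (Fin 3) F)) := by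
  classical
  have h2 : (2 : F) = 0 := by
    have h := Nat.cast_card_eq_zero F
    rw [hF] at h
    have h' : (2 : F) * 2 = 0 := by rw [← h]; norm_num
    rcases mul_eq_zero.1 h' with e | e <;> exact e
  obtain ⟨c, -, hw⟩ := Finset.exists_mem_notMem_of_card_lt_card (s := ({0, 1} : Finset F))
    (t := Finset.univ) (Finset.card_le_two.trans_lt (by rw [Finset.card_univ, hF]; norm_num))
  simp only [Finset.mem_insert, Finset.mem_singleton, not_or] at hw
  have hc2 : c * c = c + 1 := by
    have h4 : c ^ 4 = c := hF ▸ FiniteField.pow_card c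
    have h : c * (c - 1) * (c * c + c + 1) = 0 := by linear_combination h4
    have := (mul_eq_zero.1 h).resolve_left (mul_ne_zero hw.1 (sub_ne_zero.2 hw.2))
    linear_combination this - (c + 1) * h2
  have hcases : ∀ x : F, x = 0 ∨ x = 1 ∨ x = c ∨ x = c + 1 := by
    intro x
    have h4 : x ^ 4 = x := hF ▸ FiniteField.pow_card x
    have h : x * (x - 1) * ((x - c) * (x - (c + 1))) = 0 := by
      linear_combination h4 - (x ^ 2 + x ^ 3) * h2 + (x ^ 2 - x) * hc2
        + (x ^ 2 + x ^ 2 * c - x * c - c * x ^ 3) * h2 + (x ^ 2 + x ^ 2 * c) * h2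
    rcases mul_eq_zero.1 h with h | h <;> rcases mul_eq_zero.1 h with h | h
    exacts [Or.inl h, Or.inr (Or.inl (sub_eq_zero.1 h)), Or.inr (Or.inr (Or.inl (sub_eq_zero.1 h))),
      Or.inr (Or.inr (Or.inr (sub_eq_zero.1 h)))]
  have hcc : c * (c + 1) = 1 := by linear_combination hc2 + c * h2
  let π := QuotientGroup.mk' (Subgroup.center SL(3, F))
  let e : F × F × F → Matrix.ProjectiveSpecialLinearGroup (Fin 3) F := fun p => π (el p.1 p.2.1 p.2.2)
  have heinj : Function.Injective e := by
    intro p q h
    have h1 : (el p.1 p.2.1 p.2.2)⁻¹ * el q.1 q.2.1 q.2.2 ∈ Subgroup.center SL(3, F) := QuotientGroup.eq.mp h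
    obtain ⟨r, -, hr⟩ := Matrix.SpecialLinearGroup.mem_center_iff.mp h1
    have h2' : (el q.1 q.2.1 q.2.2 : Matrix (Fin 3) (Fin 3) F) =
        (el p.1 p.2.1 p.2.2 : Matrix (Fin 3) (Fin 3) F) * Matrix.scalar (Fin 3) r := by
      rw [hr, ← Matrix.SpecialLinearGroup.coe_mul, mul_inv_cancel_left]
    have e00 := congrFun (congrFun h2' 0) 0
    simp [el] at e00
    subst e00
    have e01 := congrFun (congrFun h2' 0) 1
    have e12 := congrFun (congrFun h2' 1) 2
    have e02 := congrFun (congrFun h2' 0) 2
    simp [el] at e01 e12 e02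
    exact Prod.ext e01.symm (Prod.ext e12.symm e02.symm)
  have hmul : ∀ p q : F × F × F, e p * e q = e (p.1 + q.1, p.2.1 + q.2.1, p.2.2 + q.2.2 + p.1 * q.2.1) :=
    fun p q => by show π _ * π _ = π _; rw [← map_mul, el_mul]
  have he1 : e (0, 0, 0) = 1 := by show π _ = 1; rw [el_zero, map_one]
  have hconj : ∀ (g x y : SL(3, F)), (g : Matrix (Fin 3) (Fin 3) F) * (x : Matrix (Fin 3) (Fin 3) F) =
      (y : Matrix (Fin 3) (Fin 3) F) * (g : Matrix (Fin 3) (Fin 3) F) → π g * π x * (π g)⁻¹ = π y := fun g x y h => by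
    rw [← map_mul, show g * x = y * g from Subtype.ext h, map_mul, mul_inv_cancel_right]
  refine ⟨{
    two := h2, c := c, c_sq := hc2, cases := hcases
    X := fun t => e (t, 0, 0)
    Y := fun t => e (0, t, 0)
    W := fun t => e (0, 0, t)
    X_add := fun s t => by simp only [hmul]; simp
    Y_add := fun s t => by simp only [hmul]; simp
    W_add := fun s t => by simp only [hmul]; simp
    XY := fun a b => by
      show ⁅π _, π _⁆ = π _
      rw [← map_commutatorElement, el_comm]; simp
    XW := fun a t => by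
      show ⁅π _, π _⁆ = 1
      rw [← map_commutatorElement, el_comm]; simp [el_zero]
    YW := fun b t => by
      show ⁅π _, π _⁆ = 1
      rw [← map_commutatorElement, el_comm]; simp [el_zero]
    h := π (dia c hcc)
    hX := fun t => hconj _ _ _ (by
      ext i j
      fin_cases i <;> fin_cases j <;> simp [dia, el, Matrix.SpecialLinearGroup.coe_mul, Matrix.mul_apply, Fin.sum_univ_three]
      all_goals linear_combination -t * hcc)
    hY := fun t => hconj _ _ _ (by
      ext i j
      fin_cases i <;> fin_cases j <;> simp [dia, el, Matrix.SpecialLinearGroup.coe_mul, Matrix.mul_apply, Fin.sum_univ_three]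
      all_goals first
        | linear_combination -t * hc2 - t * c * h2
        | linear_combination -t * hc2 - (t * c + t) * h2)
    hW := fun t => hconj _ _ _ (by
      ext i j
      fin_cases i <;> fin_cases j <;> simp [dia, el, Matrix.SpecialLinearGroup.coe_mul, Matrix.mul_apply, Fin.sum_univ_three]
      all_goals linear_combination -t * hcc)
    n := π (swapLow h2)
    nX := fun t => hconj _ _ _ (by
      ext i j
      fin_cases i <;> fin_cases j <;> simp [swapLow, el, Matrix.mul_apply, Fin.sum_univ_three])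
    m := π (swapUp h2)
    mW := fun t => hconj _ _ _ (by
      ext i j
      fin_cases i <;> fin_cases j <;> simp [swapUp, el, Matrix.mul_apply, Fin.sum_univ_three])
    W_inj := fun t ht => by
      have := heinj (ht.trans he1.symm)
      simpa using this
    index := ?_ }⟩
  let U : Subgroup (Matrix.ProjectiveSpecialLinearGroup (Fin 3) F) :=
    { carrier := Set.range e
      one_mem' := ⟨(0, 0, 0), he1⟩
      mul_mem' := by
        rintro _ _ ⟨p, rfl⟩ ⟨q, rfl⟩
        exact ⟨_, (hmul p q).symm⟩
      inv_mem' := by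
        rintro _ ⟨p, rfl⟩
        refine ⟨(-p.1, -p.2.1, -p.2.2 + p.1 * p.2.1), eq_inv_of_mul_eq_one_left ?_⟩
        rw [hmul, ← he1]
        congr 1
        refine Prod.ext ?_ (Prod.ext ?_ ?_) <;> simp }
  have hU : Nat.card U = 64 := by
    show Nat.card (Set.range e) = 64
    rw [← Nat.card_congr (Equiv.ofInjective e heinj), Nat.card_prod, Nat.card_prod,
      Nat.card_eq_fintype_card, hF]
  have hcard : Nat.card (Matrix.ProjectiveSpecialLinearGroup (Fin 3) F) = 20160 := by
    have h1 := CfsgLib.Classical.card_SL (F := F) 3 (by norm_num)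
    have h3 := CfsgLib.Classical.card_SL_eq_gcd_mul_card_PSL (F := F) (ι := Fin 3)
    rw [hF, Fintype.card_fin, show Nat.gcd 3 (4 - 1) = 3 from rfl] at h3
    rw [hF, Fin.prod_univ_three, h3] at h1
    norm_num [-Nat.card_eq_fintype_card] at h1
    omega
  have hi : U.index = 315 := by
    have := U.card_mul_index
    rw [hU, hcard] at this
    omega
  intro hdvd
  have hle : U ≤ Subgroup.closure (Set.range (fun t => e (t, 0, 0)) ∪ Set.range (fun t => e (0, t, 0)) ∪
      Set.range (fun t => e (0, 0, t))) := by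
    rintro _ ⟨⟨a, b, d⟩, rfl⟩
    have : e (a, b, d) = e (a, 0, 0) * e (0, b, 0) * e (0, 0, d - a * b) := by
      rw [hmul, hmul]; congr 1; simp
    rw [this]
    exact mul_mem (mul_mem (Subgroup.subset_closure (Or.inl (Or.inl ⟨a, rfl⟩)))
      (Subgroup.subset_closure (Or.inl (Or.inr ⟨b, rfl⟩)))) (Subgroup.subset_closure (Or.inr ⟨_, rfl⟩))
  have := hdvd.trans (Subgroup.index_dvd_of_le hle)
  rw [hi] at this
  norm_num at this

/-- A stem extension of `PSL(3, 4)` with kernel of exponent two has kernel of order at most four. -/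
theorem card_ker_le_four (hF : Fintype.card F = 4) {Γ : Type w} [Group Γ] [Finite Γ]
    (σ : Γ →* Matrix.ProjectiveSpecialLinearGroup (Fin 3) F) (hs : Function.Surjective σ)
    (hc : σ.ker ≤ Subgroup.center Γ) (hd : σ.ker ≤ commutator Γ) (he : ∀ z ∈ σ.ker, z * z = 1) :
    Nat.card σ.ker ≤ 4 := by
  obtain ⟨D⟩ := nonempty_data hF
  exact D.card_ker_le σ hs hc he hd

end CfsgLib.Known.L34
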