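import Mathlib
import Cfsg.Agent.Lib.Known.L34.Bound

/-!
# The exponent of the 2-part of the multiplier over root data of type `A₂` over four elements

In a stem extension the elements of 2-power order in the kernel have order dividing four.
-/

set_option autoImplicit false

namespace CfsgLib.Known.L34

open scoped commutatorElement

universe u v w

variable {F : Type u} [Field F] {G : Type v} [Group G] {Γ : Type w} [Group Γ]

/-- Commutators over commuting images, one of them an involution, square to one. -/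
theorem comm_sq (σ : Γ →* G) (hc : σ.ker ≤ Subgroup.center Γ) {a b : Γ} (h2 : σ a * σ a = 1)
    (h : σ a * σ b = σ b * σ a) : ⁅a, b⁆ * ⁅a, b⁆ = 1 ∧ ⁅a, b⁆ ∈ σ.ker := by
  have hk : ⁅a, b⁆ ∈ σ.ker := by
    rw [MonoidHom.mem_ker, map_commutatorElement, commutatorElement_eq_one_iff_mul_comm]; exact h
  refine ⟨?_, hk⟩
  have haa : a * a ∈ σ.ker := by rw [MonoidHom.mem_ker, map_mul, h2]
  have h1 : ⁅a * a, b⁆ = 1 :=
    commutatorElement_eq_one_iff_mul_comm.2 (Subgroup.mem_center_iff.1 (hc haa) b).symm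
  rwa [mul_left_eq, Subgroup.mem_center_iff.1 (hc hk) a, mul_inv_cancel_right] at h1

theorem pow_four_of_sq {z : Γ} (h : z * z = 1) : z ^ 4 = 1 := by
  calc z ^ 4 = z * z * (z * z) := by simp only [pow_succ, pow_zero, one_mul, mul_assoc]
    _ = 1 := by rw [h, one_mul]

namespace Data

variable (D : Data F G) (σ : Γ →* G) (hs : Function.Surjective σ) (hc : σ.ker ≤ Subgroup.center Γ)

include D hs hc in
/-- Kernel elements of 2-power order in a stem extension have fourth power one. -/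
theorem pow_four [Finite Γ] (hd : σ.ker ≤ commutator Γ) {z : Γ} (hz : z ∈ σ.ker) {k : ℕ}
    (hk : z ^ 2 ^ k = 1) : z ^ 4 = 1 := by
  classical
  have hl : ∀ g, σ (lift σ hs g) = g := σ_lift σ hs
  set l := lift σ hs
  have hker : ∀ {z : Γ}, z ∈ σ.ker → ∀ g, g * z = z * g := fun hz => Subgroup.mem_center_iff.1 (hc hz)
  have hcq : D.c * D.c + D.c = 1 := by linear_combination D.c_sq + D.c * D.two
  -- the canonical lift of the central root group
  set e : F → Γ := fun t => ⁅l D.h, l (D.W (t * D.c))⁆ with he'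
  have heσ : ∀ t, σ (e t) = D.W t := by
    intro t
    rw [he', map_commutatorElement, hl, hl, commutatorElement_def, D.hW,
      inv_eq_of_mul_eq_one_left (D.W_self (t * D.c)), D.W_add,
      show D.c * (t * D.c) + t * D.c = t by linear_combination t * hcq]
  have hW2 : ∀ t, σ (e t) * σ (e t) = 1 := fun t => by rw [heσ, D.W_self]
  have hWW : ∀ s t, D.W s * D.W t = D.W t * D.W s := fun s t => by rw [D.W_add, D.W_add, add_comm]
  have headd : ∀ s t, ∃ ρ ∈ σ.ker, ρ * ρ = 1 ∧ e s * e t = e (s + t) * ρ := by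
    intro s t
    have e1 : e (s + t) = ⁅l D.h, l (D.W (s * D.c)) * l (D.W (t * D.c))⁆ :=
      comm_lift σ hc rfl (by rw [map_mul, hl, hl, hl, D.W_add, add_mul])
    have hinv : σ (e t)⁻¹ = D.W t := by rw [map_inv, heσ, inv_eq_of_mul_eq_one_left (D.W_self t)]
    obtain ⟨h2, hk2⟩ := comm_sq σ hc (a := (e t)⁻¹) (b := l (D.W (s * D.c)))
      (by rw [hinv, D.W_self]) (by rw [hinv, hl, hWW])
    refine ⟨⁅(e t)⁻¹, l (D.W (s * D.c))⁆⁻¹, inv_mem hk2, by rw [← mul_inv_rev, h2, inv_one], ?_⟩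
    rw [e1, mul_right_eq]
    show e s * e t = e s * (l (D.W (s * D.c)) * e t * (l (D.W (s * D.c)))⁻¹) * ⁅(e t)⁻¹, l (D.W (s * D.c))⁆⁻¹
    rw [commutatorElement_def]; group
  have he0 : e 0 = 1 :=
    commutatorElement_eq_one_iff_mul_comm.2
      (hker (by rw [MonoidHom.mem_ker, hl, zero_mul, D.W_zero]) _)
  have hesq : ∀ t, (e t * e t) ∈ σ.ker ∧ e t * e t * (e t * e t) = 1 := by
    intro t
    obtain ⟨ρ, hρ, hρ2, h⟩ := headd t t
    rw [h, D.add_self', he0, one_mul]
    exact ⟨hρ, hρ2⟩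
  let M : Subgroup Γ :=
    { carrier := {g | ∃ t, ∃ z ∈ σ.ker, z ^ 4 = 1 ∧ g = e t * z}
      one_mem' := ⟨0, 1, one_mem _, one_pow _, by rw [he0, one_mul]⟩
      mul_mem' := by
        rintro _ _ ⟨t, z, hz, hz4, rfl⟩ ⟨t', z', hz', hz4', rfl⟩
        obtain ⟨ρ, hρ, hρ2, h⟩ := headd t t'
        refine ⟨t + t', ρ * z * z', mul_mem (mul_mem hρ hz) hz', ?_, ?_⟩
        · have c1 : Commute (ρ * z) z' := hker hz' _
          have c2 : Commute ρ z := hker hz _
          rw [c1.mul_pow, c2.mul_pow, hz4, hz4', pow_four_of_sq hρ2, one_mul, one_mul]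
        · calc e t * z * (e t' * z') = e t * (z * e t') * z' := by group
            _ = e t * (e t' * z) * z' := by rw [← hker hz]
            _ = e t * e t' * z * z' := by group
            _ = _ := by rw [h]; group
      inv_mem' := by
        rintro _ ⟨t, z, hz, hz4, rfl⟩
        obtain ⟨hq, hq2⟩ := hesq t
        refine ⟨t, (e t * e t)⁻¹ * z⁻¹, mul_mem (inv_mem hq) (inv_mem hz), ?_, ?_⟩
        · rw [(show Commute (e t * e t)⁻¹ z⁻¹ from hker (inv_mem hz) _).mul_pow, inv_pow, inv_pow,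
            pow_four_of_sq hq2, hz4, inv_one, mul_one]
        · rw [← mul_assoc, mul_inv_rev, mul_inv_rev, ← mul_assoc, mul_inv_cancel, one_mul]
          exact hker (inv_mem hz) _ |>.symm }
  have hKM : ∀ z ∈ σ.ker, z * z = 1 → z ∈ M := fun z hz h =>
    ⟨0, z, hz, pow_four_of_sq h, by rw [he0, one_mul]⟩
  have hkerM : ∀ {a b : Γ}, b ∈ σ.ker → ⁅a, b⁆ ∈ M := fun hb => by
    rw [commutatorElement_eq_one_iff_mul_comm.2 (hker hb _)]; exact one_mem _
  set R := Set.range D.X ∪ Set.range D.Y ∪ Set.range D.W with hR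
  set T : Set Γ := σ ⁻¹' (R ∪ {1}) with hT
  have hPT : (Subgroup.closure R).comap σ ≤ Subgroup.closure T := by
    intro g hg
    have hRT : R ⊆ σ '' T := fun r hr => ⟨l r, Or.inl (by rw [hl]; exact hr), hl r⟩
    have : σ g ∈ (Subgroup.closure T).map σ := by
      rw [MonoidHom.map_closure]
      exact Subgroup.closure_mono hRT hg
    obtain ⟨g', hg', hgg'⟩ := this
    have hk : g'⁻¹ * g ∈ T := Or.inr (by rw [Set.mem_singleton_iff, map_mul, map_inv, hgg', inv_mul_cancel])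
    rw [show g = g' * (g'⁻¹ * g) by group]
    exact mul_mem hg' (Subgroup.subset_closure hk)
  have hcases : ∀ g ∈ T, g ∈ σ.ker ∨ (∃ t, σ g = D.X t) ∨ (∃ t, σ g = D.Y t) ∨ (∃ t, σ g = D.W t) := by
    rintro g (((⟨t, ht⟩ | ⟨t, ht⟩) | ⟨t, ht⟩) | h1)
    exacts [Or.inr (Or.inl ⟨t, ht.symm⟩), Or.inr (Or.inr (Or.inl ⟨t, ht.symm⟩)),
      Or.inr (Or.inr (Or.inr ⟨t, ht.symm⟩)), Or.inl h1]
  have hsame : ∀ {a b : Γ}, σ a * σ a = 1 → σ a * σ b = σ b * σ a → ⁅a, b⁆ ∈ M := fun h2 h =>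
    hKM _ (comm_sq σ hc h2 h).2 (comm_sq σ hc h2 h).1
  have hTW : ∀ g ∈ T, ∀ t, D.W t * σ g = σ g * D.W t := by
    intro g hg t
    rcases hcases g hg with h | ⟨s, h⟩ | ⟨s, h⟩ | ⟨s, h⟩
    · rw [MonoidHom.mem_ker.1 h, mul_one, one_mul]
    · rw [h]; exact (commutatorElement_eq_one_iff_mul_comm.1 (D.XW s t)).symm
    · rw [h]; exact (commutatorElement_eq_one_iff_mul_comm.1 (D.YW s t)).symm
    · rw [h]; exact hWW _ _
  have hnorm : ∀ g ∈ Subgroup.closure T, ∀ x ∈ M, g * x * g⁻¹ ∈ M := by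
    intro g hg
    induction hg using Subgroup.closure_induction_left with
    | one => intro x hx; simpa using hx
    | mul_left a ha b _ ih =>
      intro x hx
      obtain ⟨t, y, hy, hy4, h⟩ := ih x hx
      rw [show a * b * x * (a * b)⁻¹ = a * (b * x * b⁻¹) * a⁻¹ by group, h,
        show a * (e t * y) * a⁻¹ = ⁅a, e t⁆ * (e t * (a * y * a⁻¹)) by rw [commutatorElement_def]; group,
        hker hy a, mul_inv_cancel_right, ← commutatorElement_inv]
      exact mul_mem (inv_mem (hsame (hW2 t) (by rw [heσ]; exact hTW a ha t))) ⟨t, y, hy, hy4, rfl⟩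
    | inv_mul_cancel a ha b _ ih =>
      intro x hx
      obtain ⟨t, y, hy, hy4, h⟩ := ih x hx
      rw [show a⁻¹ * b * x * (a⁻¹ * b)⁻¹ = a⁻¹ * (b * x * b⁻¹) * a by group, h,
        show a⁻¹ * (e t * y) * a = ⁅a⁻¹, e t⁆ * (e t * (a⁻¹ * y * a)) by rw [commutatorElement_def]; group,
        hker hy a⁻¹, inv_mul_cancel_right, ← commutatorElement_inv]
      exact mul_mem (inv_mem (hsame (hW2 t) (by
        rw [heσ, map_inv, eq_inv_mul_iff_mul_eq, ← mul_assoc, ← hTW a ha t, mul_inv_cancel_right])))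
        ⟨t, y, hy, hy4, rfl⟩
  have hX2 : ∀ {g : Γ} {s : F}, σ g = D.X s → σ g * σ g = 1 := fun h => by
    rw [h, D.X_add, D.add_self', D.X_zero]
  have hY2 : ∀ {g : Γ} {s : F}, σ g = D.Y s → σ g * σ g = 1 := fun h => by
    rw [h, D.Y_add, D.add_self', D.Y_zero]
  have hgen : ∀ a ∈ T, ∀ b ∈ T, ⁅a, b⁆ ∈ M := by
    have hsym : ∀ {a b : Γ}, ⁅a, b⁆ ∈ M → ⁅b, a⁆ ∈ M := fun h => by
      rw [← commutatorElement_inv]; exact inv_mem h
    have hxy : ∀ a b : Γ, ∀ s t, σ a = D.X s → σ b = D.Y t → ⁅a, b⁆ ∈ M := by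
      intro a b s t ha hb
      set u := ⁅a, b⁆ with hu
      have hu' : σ u = D.W (s * t) := by rw [hu, map_commutatorElement, ha, hb, D.XY]
      have haa : a * a ∈ σ.ker := by rw [MonoidHom.mem_ker, map_mul]; exact hX2 ha
      have h1 : ⁅a * a, b⁆ = 1 := commutatorElement_eq_one_iff_mul_comm.2 (hker haa b).symm
      rw [mul_left_eq, ← hu] at h1
      obtain ⟨h2, hk2⟩ := comm_sq σ hc (a := a) (b := u) (hX2 ha)
        (by rw [hu', ha]; exact commutatorElement_eq_one_iff_mul_comm.1 (D.XW _ _))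
      have h3 : ⁅a, u⁆ * (u * u) = 1 := by rw [commutatorElement_def, ← h1]; group
      have huu : u * u = ⁅a, u⁆ := by
        rw [eq_inv_of_mul_eq_one_right h3, inv_eq_of_mul_eq_one_left h2]
      set y := (e (s * t))⁻¹ * u with hy
      have hyk : y ∈ σ.ker := by rw [MonoidHom.mem_ker, hy, map_mul, map_inv, heσ, hu', inv_mul_cancel]
      obtain ⟨hq, hq2⟩ := hesq (s * t)
      refine ⟨s * t, y, hyk, ?_, by rw [hy, mul_inv_cancel_left]⟩
      have h4 : u * u = e (s * t) * e (s * t) * (y * y) := by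
        calc u * u = e (s * t) * (y * e (s * t)) * y := by rw [hy]; group
          _ = e (s * t) * (e (s * t) * y) * y := by rw [← hker hyk]
          _ = _ := by group
      have h5 : y * y = (e (s * t) * e (s * t))⁻¹ * ⁅a, u⁆ := by rw [← huu, h4, inv_mul_cancel_left]
      rw [show (4 : ℕ) = 2 * 2 from rfl, pow_mul, pow_two y, h5,
        (show Commute (e (s * t) * e (s * t))⁻¹ ⁅a, u⁆ from hker hk2 _).mul_pow, inv_pow, pow_two, hq2, inv_one,
        one_mul, pow_two, h2]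
    intro a ha b hb
    rcases hcases a ha with h | ⟨s, h⟩ | ⟨s, h⟩ | ⟨s, h⟩
    · exact hsym (hkerM h)
    all_goals rcases hcases b hb with h' | ⟨t, h'⟩ | ⟨t, h'⟩ | ⟨t, h'⟩
    all_goals first
      | exact hkerM h'
      | exact hxy a b s t h h'
      | exact hsym (hxy b a t s h' h)
      | exact hsame (hX2 h) (by rw [h, h', D.X_add, D.X_add, add_comm])
      | exact hsame (hY2 h) (by rw [h, h', D.Y_add, D.Y_add, add_comm])
      | exact hsame (hX2 h) (by rw [h']; exact (hTW a ha t).symm)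
      | exact hsame (hY2 h) (by rw [h']; exact (hTW a ha t).symm)
      | exact hsame (by rw [h, D.W_self]) (by rw [h]; exact hTW b hb s)
  have hstep : ∀ a : Γ, (∀ b ∈ T, ⁅a, b⁆ ∈ M) → ∀ b ∈ Subgroup.closure T, ⁅a, b⁆ ∈ M := by
    intro a ha b hb
    induction hb using Subgroup.closure_induction with
    | mem x hx => exact ha x hx
    | one => rw [commutatorElement_one_right]; exact one_mem _
    | mul x y hx hy h1 h2 => rw [mul_right_eq]; exact mul_mem h1 (hnorm x hx _ h2)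
    | inv x hx h1 =>
      rw [show ⁅a, x⁻¹⁆ = x⁻¹ * ⁅a, x⁆⁻¹ * x⁻¹⁻¹ by simp only [commutatorElement_def]; group]
      exact hnorm _ (inv_mem hx) _ (inv_mem h1)
  have hderT : ∀ b ∈ Subgroup.closure T, ∀ a ∈ T, ⁅b, a⁆ ∈ M := fun b hb a ha => by
    rw [← commutatorElement_inv]; exact inv_mem (hstep a (hgen a ha) b hb)
  have hder : ⁅(Subgroup.closure R).comap σ, (Subgroup.closure R).comap σ⁆ ≤ M :=
    Subgroup.commutator_le.2 fun a ha b hb => hstep a (hderT a (hPT ha)) b (hPT hb)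
  obtain ⟨t, y, hy, hy4, rfl⟩ : z ∈ M :=
    CfsgLib.Char.Exceptional.AltMultiplier.mem_of_prime_pow _ (hc hz) (hd hz) Nat.prime_two
      (by rw [Subgroup.index_comap_of_surjective _ hs]; exact D.index) hk hder
  have h1 := MonoidHom.mem_ker.1 hz
  rw [map_mul, heσ, MonoidHom.mem_ker.1 hy, mul_one] at h1
  rw [D.W_inj t h1, he0, one_mul]
  exact hy4

end Data

end CfsgLib.Known.L34
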