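import Mathlib
import Cfsg.Prelude.Def_KGroupFacts
import Cfsg.Agent.Lib.Known.L34.Concrete
import Cfsg.Agent.Lib.Known.L34.TwoPart

/-!
# The Schur multiplier of `PSL(3, 4)` has order at most 48
-/

set_option autoImplicit false

namespace CfsgLib.Known.L34

open scoped MatrixGroups
open CfsgLib.Char.Exceptional.AltMultiplier (eq_one_of_cyclic exists_zpowers_of_comm)

universe u w

/-- An abelian group of exponent 12 with at most three elements of order dividing three and with squares of
index at most four has at most 48 elements. -/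
theorem card_le_of_exponent {A : Type*} [CommGroup A] [Finite A] (h12 : ∀ a : A, a ^ 12 = 1)
    (h3 : Nat.card (powMonoidHom 3 : A →* A).ker ≤ 3) (h2 : (powMonoidHom 2 : A →* A).range.index ≤ 4) :
    Nat.card A ≤ 48 := by
  set R := (powMonoidHom 3 : A →* A).range with hR
  have hA : Nat.card A = Nat.card (powMonoidHom 3 : A →* A).ker * Nat.card R := by
    rw [hR, ← Subgroup.index_ker, Subgroup.card_mul_index]
  have h2' : Nat.card (powMonoidHom 2 : A →* A).ker ≤ 4 := by
    have e : Nat.card (powMonoidHom 2 : A →* A).ker = (powMonoidHom 2 : A →* A).range.index := by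
      have e1 := (powMonoidHom 2 : A →* A).ker.card_mul_index
      have e2 := (powMonoidHom 2 : A →* A).range.card_mul_index
      rw [Subgroup.index_ker, ← e2, mul_comm] at e1
      exact Nat.eq_of_mul_eq_mul_left Nat.card_pos e1
    omega
  let f : R →* A := (powMonoidHom 2 : A →* A).comp R.subtype
  have hrange : f.range ≤ (powMonoidHom 2 : A →* A).ker := by
    rintro _ ⟨⟨_, a, rfl⟩, rfl⟩
    show ((a ^ 3) ^ 2) ^ 2 = 1
    rw [← pow_mul, ← pow_mul, h12]
  have hker : Nat.card f.ker ≤ Nat.card (powMonoidHom 2 : A →* A).ker :=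
    Nat.card_le_card_of_injective (fun x : f.ker => ⟨((x : R) : A), x.2⟩) fun x y h => by
      exact Subtype.ext (Subtype.ext (congrArg (fun z : (powMonoidHom 2 : A →* A).ker => (z : A)) h))
  have hR16 : Nat.card R ≤ 16 := by
    rw [← f.ker.card_mul_index, Subgroup.index_ker]
    exact Nat.mul_le_mul (hker.trans h2') ((Subgroup.card_le_of_le hrange).trans h2')
  rw [hA]
  exact Nat.mul_le_mul h3 hR16

variable {F : Type u} [Field F] [Fintype F]

theorem card_PSL (hF : Fintype.card F = 4) :
    Nat.card (Matrix.ProjectiveSpecialLinearGroup (Fin 3) F) = 20160 := by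
  have h1 := CfsgLib.Classical.card_SL (F := F) 3 (by norm_num)
  have h3 := CfsgLib.Classical.card_SL_eq_gcd_mul_card_PSL (F := F) (ι := Fin 3)
  rw [hF, Fintype.card_fin, show Nat.gcd 3 (4 - 1) = 3 from rfl] at h3
  rw [hF, Fin.prod_univ_three, h3] at h1
  norm_num [-Nat.card_eq_fintype_card] at h1
  omega

/-- A stem extension of `PSL(3, 4)` has kernel of order at most 48. -/
theorem card_ker_le (hF : Fintype.card F = 4) {Γ : Type w} [Group Γ] [Finite Γ]
    (σ : Γ →* Matrix.ProjectiveSpecialLinearGroup (Fin 3) F) (hσ : Cfsg.IsStemExtension σ) :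
    Nat.card σ.ker ≤ 48 := by
  classical
  obtain ⟨hs, hc, hd⟩ := hσ
  obtain ⟨D⟩ := nonempty_data hF
  letI : CommGroup σ.ker :=
    { (inferInstance : Group σ.ker) with mul_comm := fun a b => Subtype.ext (Subgroup.mem_center_iff.1 (hc b.2) a) }
  have hcard := card_PSL hF
  -- the prime-power parts
  have h2 : ∀ z ∈ σ.ker, ∀ k : ℕ, z ^ 2 ^ k = 1 → z ^ 4 = 1 := fun z hz k hk => D.pow_four σ hs hc hd hz hk
  haveI h3p : Fact (Nat.Prime 3) := ⟨Nat.prime_three⟩
  obtain ⟨c, hc3, hcz⟩ : ∃ c : Γ, c ^ 3 = 1 ∧ ∀ z ∈ σ.ker, ∀ j : ℕ, z ^ 3 ^ j = 1 → z ∈ Subgroup.zpowers c := by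
    obtain ⟨P⟩ : Nonempty (Sylow 3 (Matrix.ProjectiveSpecialLinearGroup (Fin 3) F)) := inferInstance
    have hP : Nat.card P = 3 ^ 2 := by
      rw [Sylow.card_eq_multiplicity, hcard, show (20160 : ℕ) = 3 ^ 2 * 2240 from rfl,
        Nat.factorization_mul (by norm_num) (by norm_num), Finsupp.add_apply,
        Nat.Prime.factorization_pow Nat.prime_three, Finsupp.single_eq_same,
        Nat.factorization_eq_zero_of_not_dvd (by norm_num)]
    have hnd : ∀ d : Subgroup (Matrix.ProjectiveSpecialLinearGroup (Fin 3) F), 3 ^ 2 ∣ Nat.card d → ¬ 3 ∣ d.index := by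
      intro d hd9 h
      have := mul_dvd_mul hd9 h
      rw [d.card_mul_index, hcard] at this
      norm_num at this
    have hcomm : ∀ a b : P, a * b = b * a := fun a b => IsPGroup.commutative_of_card_eq_prime_sq hP a b
    by_cases hcyc : IsCyclic P
    · obtain ⟨g, hg⟩ := hcyc.exists_generator
      refine ⟨1, one_pow _, fun z hz j hj => ?_⟩
      rw [eq_one_of_cyclic σ hs hc hd (g : Matrix.ProjectiveSpecialLinearGroup (Fin 3) F) Nat.prime_three ?_ hz hj]
      · exact one_mem _
      · refine hnd _ ?_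
        rw [Nat.card_zpowers, Subgroup.orderOf_coe, orderOf_eq_card_of_forall_mem_zpowers hg, hP]
    · have hexp : ∀ a : P, a ^ 3 = 1 := by
        intro a
        obtain ⟨i, hi, e⟩ := (Nat.dvd_prime_pow Nat.prime_three).1 (hP ▸ orderOf_dvd_natCard a)
        rcases (by omega : i ≤ 1 ∨ i = 2) with h | rfl
        · exact orderOf_dvd_iff_pow_eq_one.1 (e ▸ (pow_dvd_pow 3 h).trans (by norm_num))
        · exact (hcyc (isCyclic_of_orderOf_eq_card a (e.trans hP.symm))).elim
      obtain ⟨x, hx⟩ : ∃ x : P, x ≠ 1 := by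
        haveI : Nontrivial P := Finite.one_lt_card_iff_nontrivial.1 (by rw [hP]; norm_num)
        exact exists_ne 1
      have hox : orderOf x = 3 := orderOf_eq_prime (hexp x) hx
      obtain ⟨y, hy⟩ : ∃ y : P, y ∉ Subgroup.zpowers x := by
        by_contra h
        push_neg at h
        have := orderOf_eq_card_of_forall_mem_zpowers h
        rw [hox] at this
        exact absurd (this.trans hP) (by norm_num)
      set K := Subgroup.closure ({(x : Matrix.ProjectiveSpecialLinearGroup (Fin 3) F),
        (y : Matrix.ProjectiveSpecialLinearGroup (Fin 3) F)} : Set _) with hK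
      have hKP : K ≤ (P : Subgroup _) := (Subgroup.closure_le _).2 (by
        rintro g (rfl | rfl)
        exacts [x.2, y.2])
      have hK9 : 3 ^ 2 ∣ Nat.card K := by
        obtain ⟨i, hi, e⟩ := (Nat.dvd_prime_pow Nat.prime_three).1 (hP ▸ Subgroup.card_dvd_of_le hKP)
        rcases (by omega : i ≤ 1 ∨ i = 2) with h | rfl
        · exfalso
          have hle : Subgroup.zpowers (x : Matrix.ProjectiveSpecialLinearGroup (Fin 3) F) ≤ K :=
            Subgroup.zpowers_le.2 (Subgroup.subset_closure (by simp))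
          have hcx : Nat.card (Subgroup.zpowers (x : Matrix.ProjectiveSpecialLinearGroup (Fin 3) F)) = 3 := by
            rw [Nat.card_zpowers, Subgroup.orderOf_coe, hox]
          have heq := Subgroup.eq_of_le_of_card_ge hle (by
            rw [e, hcx]; exact (Nat.pow_le_pow_right (by norm_num) h).trans (by norm_num))
          have hy' : (y : Matrix.ProjectiveSpecialLinearGroup (Fin 3) F) ∈
              Subgroup.zpowers (x : Matrix.ProjectiveSpecialLinearGroup (Fin 3) F) :=
            heq ▸ Subgroup.subset_closure (by simp)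
          obtain ⟨n, hn⟩ := Subgroup.mem_zpowers_iff.1 hy'
          exact hy (Subgroup.mem_zpowers_iff.2 ⟨n, Subtype.ext (by simpa using hn)⟩)
        · rw [e]
      obtain ⟨c, hc3, -, hcz⟩ := exists_zpowers_of_comm σ hs hc hd
        (x := (x : Matrix.ProjectiveSpecialLinearGroup (Fin 3) F))
        (y := (y : Matrix.ProjectiveSpecialLinearGroup (Fin 3) F))
        (congrArg Subtype.val (hcomm y x)) (k := 3) (congrArg Subtype.val (hexp x)) Nat.prime_three (hnd K hK9)
      exact ⟨c, hc3, hcz⟩
  have hp : ∀ p : ℕ, p.Prime → p ≠ 2 → p ≠ 3 → ∀ z ∈ σ.ker, ∀ j : ℕ, z ^ p ^ j = 1 → z = 1 := by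
    intro p hp hp2 hp3 z hz j hj
    by_cases hdvd : p ∣ 20160
    · haveI := Fact.mk hp
      obtain ⟨g, hg⟩ := exists_prime_orderOf_dvd_card' p (G := Matrix.ProjectiveSpecialLinearGroup (Fin 3) F)
        (by rw [hcard]; exact hdvd)
      refine eq_one_of_cyclic σ hs hc hd g hp ?_ hz hj
      intro h
      have h2 := mul_dvd_mul_left (Nat.card (Subgroup.zpowers g)) h
      rw [Subgroup.card_mul_index, Nat.card_zpowers, hg, hcard] at h2
      have h57 : p = 5 ∨ p = 7 := by
        have h' : p ∣ 2 ^ 6 * 3 ^ 2 * 5 * 7 := hdvd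
        rcases (Nat.Prime.dvd_mul hp).1 h' with h | h
        · rcases (Nat.Prime.dvd_mul hp).1 h with h | h
          · rcases (Nat.Prime.dvd_mul hp).1 h with h | h
            · exact absurd ((Nat.prime_dvd_prime_iff_eq hp Nat.prime_two).1 (hp.dvd_of_dvd_pow h)) hp2
            · exact absurd ((Nat.prime_dvd_prime_iff_eq hp Nat.prime_three).1 (hp.dvd_of_dvd_pow h)) hp3
          · exact Or.inl ((Nat.prime_dvd_prime_iff_eq hp (by norm_num)).1 h)
        · exact Or.inr ((Nat.prime_dvd_prime_iff_eq hp (by norm_num)).1 h)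
      rcases h57 with rfl | rfl <;> norm_num at h2
    · refine eq_one_of_cyclic σ hs hc hd 1 hp ?_ hz hj
      intro h
      refine hdvd (h.trans ?_)
      rw [← hcard]
      exact Subgroup.index_dvd_card _
  have h12 : ∀ z : σ.ker, z ^ 12 = 1 := by
    intro z
    rw [← orderOf_dvd_iff_pow_eq_one]
    have hn : orderOf z ≠ 0 := (orderOf_pos z).ne'
    rw [← Nat.factorization_le_iff_dvd hn (by norm_num), Finsupp.le_def]
    intro p
    by_cases hpp : p.Prime
    swap
    · rw [Nat.factorization_eq_zero_of_not_prime _ hpp]; exact Nat.zero_le _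
    set m := orderOf z / p ^ (orderOf z).factorization p with hm
    set y := (z : Γ) ^ m with hy
    have hyk : y ∈ σ.ker := pow_mem z.2 _
    have hyo : orderOf y = p ^ (orderOf z).factorization p := by
      rw [hy, hm, ← Subgroup.orderOf_coe z]
      exact orderOf_pow_orderOf_div (by rwa [Subgroup.orderOf_coe]) (Nat.ordProj_dvd _ _)
    have hyp : y ^ p ^ (orderOf z).factorization p = 1 := by rw [← hyo]; exact pow_orderOf_eq_one y
    rcases eq_or_ne p 2 with rfl | hp2
    · have h4 : 2 ^ (orderOf z).factorization 2 ∣ 2 ^ 2 := hyo ▸ orderOf_dvd_of_pow_eq_one (h2 y hyk _ hyp)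
      rw [show (12 : ℕ) = 2 ^ 2 * 3 from rfl, Nat.factorization_mul (by norm_num) (by norm_num), Finsupp.add_apply,
        Nat.Prime.factorization_pow Nat.prime_two, Finsupp.single_eq_same]
      have := (Nat.pow_dvd_pow_iff_le_right (by norm_num)).1 h4
      omega
    rcases eq_or_ne p 3 with rfl | hp3
    · obtain ⟨n, hn'⟩ := Subgroup.mem_zpowers_iff.1 (hcz y hyk _ hyp)
      have hy3 : y ^ 3 = 1 := by
        rw [← hn', ← zpow_natCast (c ^ n), ← zpow_mul, mul_comm, zpow_mul, zpow_natCast, hc3, one_zpow]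
      have h4 : 3 ^ (orderOf z).factorization 3 ∣ 3 ^ 1 := hyo ▸ orderOf_dvd_of_pow_eq_one hy3
      rw [show (12 : ℕ) = 3 ^ 1 * 4 from rfl, Nat.factorization_mul (by norm_num) (by norm_num), Finsupp.add_apply,
        Nat.Prime.factorization_pow Nat.prime_three, Finsupp.single_eq_same]
      have := (Nat.pow_dvd_pow_iff_le_right (by norm_num)).1 h4
      omega
    · have h1 : p ^ (orderOf z).factorization p = 1 := by
        rw [← hyo, hp p hpp hp2 hp3 y hyk _ hyp, orderOf_one]
      have : (orderOf z).factorization p = 0 := by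
        rcases (Nat.pow_eq_one.1 h1) with h | h
        · exact absurd h hpp.ne_one
        · exact h
      rw [this]; exact Nat.zero_le _
  refine card_le_of_exponent h12 ?_ ?_
  · calc Nat.card (powMonoidHom 3 : σ.ker →* σ.ker).ker ≤ Nat.card (Subgroup.zpowers c) :=
          Nat.card_le_card_of_injective
            (fun z => ⟨((z : σ.ker) : Γ), hcz _ (z : σ.ker).2 1 (by
              rw [pow_one]; exact congrArg Subtype.val z.2)⟩)
            fun a b h => Subtype.ext (Subtype.ext (congrArg (fun x : Subgroup.zpowers c => (x : Γ)) h))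
      _ ≤ 3 := by rw [Nat.card_zpowers]; exact Nat.le_of_dvd (by norm_num) (orderOf_dvd_of_pow_eq_one hc3)
  · -- the quotient by the squares of the kernel
    let N : Subgroup Γ := (powMonoidHom 2 : σ.ker →* σ.ker).range.map σ.ker.subtype
    have hNk : N ≤ σ.ker := Subgroup.map_subtype_le _
    haveI : N.Normal := ⟨fun n hn g => by
      rw [Subgroup.mem_center_iff.1 (hc (hNk hn)) g, mul_inv_cancel_right]; exact hn⟩
    let τ : Γ ⧸ N →* _ := QuotientGroup.lift N σ hNk
    have hk : τ.ker = σ.ker.map (QuotientGroup.mk' N) := QuotientGroup.ker_lift _ _ _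
    have hle := card_ker_le_four hF τ (QuotientGroup.lift_surjective_of_surjective N σ hs hNk) (by
      rw [hk]; rintro _ ⟨y, hy, rfl⟩
      refine Subgroup.mem_center_iff.2 fun g => ?_
      obtain ⟨g, rfl⟩ := QuotientGroup.mk'_surjective N g
      rw [← map_mul, ← map_mul, Subgroup.mem_center_iff.1 (hc hy) g]) (by
      rw [hk, commutator_def, ← Subgroup.map_top_of_surjective _ (QuotientGroup.mk'_surjective N),
        ← Subgroup.map_commutator, ← commutator_def]
      exact Subgroup.map_mono hd) (by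
      rw [hk]; rintro _ ⟨y, hy, rfl⟩
      rw [← map_mul]
      exact (QuotientGroup.eq_one_iff _).2 ⟨⟨y, hy⟩ * ⟨y, hy⟩, ⟨⟨y, hy⟩, pow_two _⟩, rfl⟩)
    refine le_trans (le_of_eq ?_) hle
    let f : σ.ker →* τ.ker := ((QuotientGroup.mk' N).comp σ.ker.subtype).codRestrict _ fun x =>
      hk ▸ ⟨x, x.2, rfl⟩
    have hfs : Function.Surjective f := fun ⟨x, hx⟩ => by
      obtain ⟨y, hy, e⟩ := (hk ▸ hx : x ∈ σ.ker.map (QuotientGroup.mk' N))
      exact ⟨⟨y, hy⟩, Subtype.ext e⟩
    have hfk : f.ker = (powMonoidHom 2 : σ.ker →* σ.ker).range := by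
      ext x
      rw [MonoidHom.mem_ker, Subtype.ext_iff]
      show ((x : Γ) : Γ ⧸ N) = 1 ↔ _
      rw [QuotientGroup.eq_one_iff]
      exact Subgroup.mem_map_iff_mem (Subtype.coe_injective)
    rw [← hfk, Subgroup.index_ker, MonoidHom.range_eq_top.2 hfs, Subgroup.card_top]

end CfsgLib.Known.L34
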