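import Mathlib

/-!
# Data for the cover of `PSL(3, 4)`

A transversal of the upper triangular matrices with equal diagonal in `SL(3, 4)` with inverses, and the action of
four elements on it. Field elements are coded by `0, 1, 2, 3`.
-/

set_option autoImplicit false
set_option maxRecDepth 100000

namespace CfsgLib.Known.L34.Cover

def repList : List (List ℕ × List ℕ) :=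
  [([0,0,1,0,1,0,1,0,0], [0,0,1,0,1,0,1,0,0]), ([0,0,1,0,2,0,3,0,0], [0,0,2,0,3,0,1,0,0]), ([0,0,1,0,3,0,2,0,0], [0,0,3,0,2,0,1,0,0]), ([0,0,1,1,0,0,0,1,0], [0,1,0,0,0,1,1,0,0]),
   ([0,0,1,1,0,0,1,1,0], [0,1,0,0,1,1,1,0,0]), ([0,0,1,1,0,0,2,1,0], [0,1,0,0,2,1,1,0,0]), ([0,0,1,1,0,0,3,1,0], [0,1,0,0,3,1,1,0,0]), ([0,0,1,2,0,0,0,3,0], [0,3,0,0,0,2,1,0,0]),
   ([0,0,1,2,0,0,1,3,0], [0,3,0,0,1,2,1,0,0]), ([0,0,1,2,0,0,2,3,0], [0,3,0,0,2,2,1,0,0]), ([0,0,1,2,0,0,3,3,0], [0,3,0,0,3,2,1,0,0]), ([0,0,1,3,0,0,0,2,0], [0,2,0,0,0,3,1,0,0]),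
   ([0,0,1,3,0,0,1,2,0], [0,2,0,0,1,3,1,0,0]), ([0,0,1,3,0,0,2,2,0], [0,2,0,0,2,3,1,0,0]), ([0,0,1,3,0,0,3,2,0], [0,2,0,0,3,3,1,0,0]), ([0,1,0,0,0,1,1,0,0], [0,0,1,1,0,0,0,1,0]),
   ([0,1,0,0,0,2,3,0,0], [0,0,2,1,0,0,0,3,0]), ([0,1,0,0,0,3,2,0,0], [0,0,3,1,0,0,0,2,0]), ([0,1,0,0,1,1,1,0,0], [0,0,1,1,0,0,1,1,0]), ([0,1,0,0,1,2,3,0,0], [0,0,2,1,0,0,3,3,0]),
   ([0,1,0,0,1,3,2,0,0], [0,0,3,1,0,0,2,2,0]), ([0,1,0,0,2,1,1,0,0], [0,0,1,1,0,0,2,1,0]), ([0,1,0,0,2,2,3,0,0], [0,0,2,1,0,0,1,3,0]), ([0,1,0,0,2,3,2,0,0], [0,0,3,1,0,0,3,2,0]),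
   ([0,1,0,0,3,1,1,0,0], [0,0,1,1,0,0,3,1,0]), ([0,1,0,0,3,2,3,0,0], [0,0,2,1,0,0,2,3,0]), ([0,1,0,0,3,3,2,0,0], [0,0,3,1,0,0,1,2,0]), ([0,1,0,1,0,0,0,0,1], [0,1,0,1,0,0,0,0,1]),
   ([0,1,0,1,0,0,0,1,1], [0,1,0,1,0,0,1,0,1]), ([0,1,0,1,0,0,0,2,1], [0,1,0,1,0,0,2,0,1]), ([0,1,0,1,0,0,0,3,1], [0,1,0,1,0,0,3,0,1]), ([0,1,0,1,0,0,1,0,1], [0,1,0,1,0,0,0,1,1]),
   ([0,1,0,1,0,0,1,1,1], [0,1,0,1,0,0,1,1,1]), ([0,1,0,1,0,0,1,2,1], [0,1,0,1,0,0,2,1,1]), ([0,1,0,1,0,0,1,3,1], [0,1,0,1,0,0,3,1,1]), ([0,1,0,1,0,0,2,0,1], [0,1,0,1,0,0,0,2,1]),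
   ([0,1,0,1,0,0,2,1,1], [0,1,0,1,0,0,1,2,1]), ([0,1,0,1,0,0,2,2,1], [0,1,0,1,0,0,2,2,1]), ([0,1,0,1,0,0,2,3,1], [0,1,0,1,0,0,3,2,1]), ([0,1,0,1,0,0,3,0,1], [0,1,0,1,0,0,0,3,1]),
   ([0,1,0,1,0,0,3,1,1], [0,1,0,1,0,0,1,3,1]), ([0,1,0,1,0,0,3,2,1], [0,1,0,1,0,0,2,3,1]), ([0,1,0,1,0,0,3,3,1], [0,1,0,1,0,0,3,3,1]), ([0,1,0,2,0,0,0,0,3], [0,3,0,1,0,0,0,0,2]),
   ([0,1,0,2,0,0,0,1,3], [0,3,0,1,0,0,2,0,2]), ([0,1,0,2,0,0,0,2,3], [0,3,0,1,0,0,3,0,2]), ([0,1,0,2,0,0,0,3,3], [0,3,0,1,0,0,1,0,2]), ([0,1,0,2,0,0,1,0,3], [0,3,0,1,0,0,0,1,2]),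
   ([0,1,0,2,0,0,1,1,3], [0,3,0,1,0,0,2,1,2]), ([0,1,0,2,0,0,1,2,3], [0,3,0,1,0,0,3,1,2]), ([0,1,0,2,0,0,1,3,3], [0,3,0,1,0,0,1,1,2]), ([0,1,0,2,0,0,2,0,3], [0,3,0,1,0,0,0,2,2]),
   ([0,1,0,2,0,0,2,1,3], [0,3,0,1,0,0,2,2,2]), ([0,1,0,2,0,0,2,2,3], [0,3,0,1,0,0,3,2,2]), ([0,1,0,2,0,0,2,3,3], [0,3,0,1,0,0,1,2,2]), ([0,1,0,2,0,0,3,0,3], [0,3,0,1,0,0,0,3,2]),
   ([0,1,0,2,0,0,3,1,3], [0,3,0,1,0,0,2,3,2]), ([0,1,0,2,0,0,3,2,3], [0,3,0,1,0,0,3,3,2]), ([0,1,0,2,0,0,3,3,3], [0,3,0,1,0,0,1,3,2]), ([0,1,0,3,0,0,0,0,2], [0,2,0,1,0,0,0,0,3]),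
   ([0,1,0,3,0,0,0,1,2], [0,2,0,1,0,0,3,0,3]), ([0,1,0,3,0,0,0,2,2], [0,2,0,1,0,0,1,0,3]), ([0,1,0,3,0,0,0,3,2], [0,2,0,1,0,0,2,0,3]), ([0,1,0,3,0,0,1,0,2], [0,2,0,1,0,0,0,1,3]),
   ([0,1,0,3,0,0,1,1,2], [0,2,0,1,0,0,3,1,3]), ([0,1,0,3,0,0,1,2,2], [0,2,0,1,0,0,1,1,3]), ([0,1,0,3,0,0,1,3,2], [0,2,0,1,0,0,2,1,3]), ([0,1,0,3,0,0,2,0,2], [0,2,0,1,0,0,0,2,3]),
   ([0,1,0,3,0,0,2,1,2], [0,2,0,1,0,0,3,2,3]), ([0,1,0,3,0,0,2,2,2], [0,2,0,1,0,0,1,2,3]), ([0,1,0,3,0,0,2,3,2], [0,2,0,1,0,0,2,2,3]), ([0,1,0,3,0,0,3,0,2], [0,2,0,1,0,0,0,3,3]),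
   ([0,1,0,3,0,0,3,1,2], [0,2,0,1,0,0,3,3,3]), ([0,1,0,3,0,0,3,2,2], [0,2,0,1,0,0,1,3,3]), ([0,1,0,3,0,0,3,3,2], [0,2,0,1,0,0,2,3,3]), ([1,0,0,0,0,1,0,1,0], [1,0,0,0,0,1,0,1,0]),
   ([1,0,0,0,0,1,1,1,0], [1,0,0,1,0,1,0,1,0]), ([1,0,0,0,0,1,2,1,0], [1,0,0,2,0,1,0,1,0]), ([1,0,0,0,0,1,3,1,0], [1,0,0,3,0,1,0,1,0]), ([1,0,0,0,0,2,0,3,0], [1,0,0,0,0,2,0,3,0]),
   ([1,0,0,0,0,2,1,3,0], [1,0,0,2,0,2,0,3,0]), ([1,0,0,0,0,2,2,3,0], [1,0,0,3,0,2,0,3,0]), ([1,0,0,0,0,2,3,3,0], [1,0,0,1,0,2,0,3,0]), ([1,0,0,0,0,3,0,2,0], [1,0,0,0,0,3,0,2,0]),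
   ([1,0,0,0,0,3,1,2,0], [1,0,0,3,0,3,0,2,0]), ([1,0,0,0,0,3,2,2,0], [1,0,0,1,0,3,0,2,0]), ([1,0,0,0,0,3,3,2,0], [1,0,0,2,0,3,0,2,0]), ([1,0,0,0,1,0,0,0,1], [1,0,0,0,1,0,0,0,1]),
   ([1,0,0,0,1,0,0,1,1], [1,0,0,0,1,0,0,1,1]), ([1,0,0,0,1,0,0,2,1], [1,0,0,0,1,0,0,2,1]), ([1,0,0,0,1,0,0,3,1], [1,0,0,0,1,0,0,3,1]), ([1,0,0,0,1,0,1,0,1], [1,0,0,0,1,0,1,0,1]),
   ([1,0,0,0,1,0,1,1,1], [1,0,0,0,1,0,1,1,1]), ([1,0,0,0,1,0,1,2,1], [1,0,0,0,1,0,1,2,1]), ([1,0,0,0,1,0,1,3,1], [1,0,0,0,1,0,1,3,1]), ([1,0,0,0,1,0,2,0,1], [1,0,0,0,1,0,2,0,1]),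
   ([1,0,0,0,1,0,2,1,1], [1,0,0,0,1,0,2,1,1]), ([1,0,0,0,1,0,2,2,1], [1,0,0,0,1,0,2,2,1]), ([1,0,0,0,1,0,2,3,1], [1,0,0,0,1,0,2,3,1]), ([1,0,0,0,1,0,3,0,1], [1,0,0,0,1,0,3,0,1]),
   ([1,0,0,0,1,0,3,1,1], [1,0,0,0,1,0,3,1,1]), ([1,0,0,0,1,0,3,2,1], [1,0,0,0,1,0,3,2,1]), ([1,0,0,0,1,0,3,3,1], [1,0,0,0,1,0,3,3,1]), ([1,0,0,0,2,0,0,0,3], [1,0,0,0,3,0,0,0,2]),
   ([1,0,0,0,2,0,0,1,3], [1,0,0,0,3,0,0,1,2]), ([1,0,0,0,2,0,0,2,3], [1,0,0,0,3,0,0,2,2]), ([1,0,0,0,2,0,0,3,3], [1,0,0,0,3,0,0,3,2]), ([1,0,0,0,2,0,1,0,3], [1,0,0,0,3,0,2,0,2]),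
   ([1,0,0,0,2,0,1,1,3], [1,0,0,0,3,0,2,1,2]), ([1,0,0,0,2,0,1,2,3], [1,0,0,0,3,0,2,2,2]), ([1,0,0,0,2,0,1,3,3], [1,0,0,0,3,0,2,3,2]), ([1,0,0,0,2,0,2,0,3], [1,0,0,0,3,0,3,0,2]),
   ([1,0,0,0,2,0,2,1,3], [1,0,0,0,3,0,3,1,2]), ([1,0,0,0,2,0,2,2,3], [1,0,0,0,3,0,3,2,2]), ([1,0,0,0,2,0,2,3,3], [1,0,0,0,3,0,3,3,2]), ([1,0,0,0,2,0,3,0,3], [1,0,0,0,3,0,1,0,2]),
   ([1,0,0,0,2,0,3,1,3], [1,0,0,0,3,0,1,1,2]), ([1,0,0,0,2,0,3,2,3], [1,0,0,0,3,0,1,2,2]), ([1,0,0,0,2,0,3,3,3], [1,0,0,0,3,0,1,3,2]), ([1,0,0,0,3,0,0,0,2], [1,0,0,0,2,0,0,0,3]),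
   ([1,0,0,0,3,0,0,1,2], [1,0,0,0,2,0,0,1,3]), ([1,0,0,0,3,0,0,2,2], [1,0,0,0,2,0,0,2,3]), ([1,0,0,0,3,0,0,3,2], [1,0,0,0,2,0,0,3,3]), ([1,0,0,0,3,0,1,0,2], [1,0,0,0,2,0,3,0,3]),
   ([1,0,0,0,3,0,1,1,2], [1,0,0,0,2,0,3,1,3]), ([1,0,0,0,3,0,1,2,2], [1,0,0,0,2,0,3,2,3]), ([1,0,0,0,3,0,1,3,2], [1,0,0,0,2,0,3,3,3]), ([1,0,0,0,3,0,2,0,2], [1,0,0,0,2,0,1,0,3]),
   ([1,0,0,0,3,0,2,1,2], [1,0,0,0,2,0,1,1,3]), ([1,0,0,0,3,0,2,2,2], [1,0,0,0,2,0,1,2,3]), ([1,0,0,0,3,0,2,3,2], [1,0,0,0,2,0,1,3,3]), ([1,0,0,0,3,0,3,0,2], [1,0,0,0,2,0,2,0,3]),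
   ([1,0,0,0,3,0,3,1,2], [1,0,0,0,2,0,2,1,3]), ([1,0,0,0,3,0,3,2,2], [1,0,0,0,2,0,2,2,3]), ([1,0,0,0,3,0,3,3,2], [1,0,0,0,2,0,2,3,3]), ([1,0,0,1,0,1,0,1,0], [1,0,0,0,0,1,1,1,0]),
   ([1,0,0,1,0,1,1,1,0], [1,0,0,1,0,1,1,1,0]), ([1,0,0,1,0,1,2,1,0], [1,0,0,2,0,1,1,1,0]), ([1,0,0,1,0,1,3,1,0], [1,0,0,3,0,1,1,1,0]), ([1,0,0,1,0,2,0,3,0], [1,0,0,0,0,2,3,3,0]),
   ([1,0,0,1,0,2,1,3,0], [1,0,0,2,0,2,3,3,0]), ([1,0,0,1,0,2,2,3,0], [1,0,0,3,0,2,3,3,0]), ([1,0,0,1,0,2,3,3,0], [1,0,0,1,0,2,3,3,0]), ([1,0,0,1,0,3,0,2,0], [1,0,0,0,0,3,2,2,0]),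
   ([1,0,0,1,0,3,1,2,0], [1,0,0,3,0,3,2,2,0]), ([1,0,0,1,0,3,2,2,0], [1,0,0,1,0,3,2,2,0]), ([1,0,0,1,0,3,3,2,0], [1,0,0,2,0,3,2,2,0]), ([1,0,0,1,1,0,0,0,1], [1,0,0,1,1,0,0,0,1]),
   ([1,0,0,1,1,0,0,1,1], [1,0,0,1,1,0,1,1,1]), ([1,0,0,1,1,0,0,2,1], [1,0,0,1,1,0,2,2,1]), ([1,0,0,1,1,0,0,3,1], [1,0,0,1,1,0,3,3,1]), ([1,0,0,1,1,0,1,0,1], [1,0,0,1,1,0,1,0,1]),
   ([1,0,0,1,1,0,1,1,1], [1,0,0,1,1,0,0,1,1]), ([1,0,0,1,1,0,1,2,1], [1,0,0,1,1,0,3,2,1]), ([1,0,0,1,1,0,1,3,1], [1,0,0,1,1,0,2,3,1]), ([1,0,0,1,1,0,2,0,1], [1,0,0,1,1,0,2,0,1]),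
   ([1,0,0,1,1,0,2,1,1], [1,0,0,1,1,0,3,1,1]), ([1,0,0,1,1,0,2,2,1], [1,0,0,1,1,0,0,2,1]), ([1,0,0,1,1,0,2,3,1], [1,0,0,1,1,0,1,3,1]), ([1,0,0,1,1,0,3,0,1], [1,0,0,1,1,0,3,0,1]),
   ([1,0,0,1,1,0,3,1,1], [1,0,0,1,1,0,2,1,1]), ([1,0,0,1,1,0,3,2,1], [1,0,0,1,1,0,1,2,1]), ([1,0,0,1,1,0,3,3,1], [1,0,0,1,1,0,0,3,1]), ([1,0,0,1,2,0,0,0,3], [1,0,0,3,3,0,0,0,2]),
   ([1,0,0,1,2,0,0,1,3], [1,0,0,3,3,0,1,1,2]), ([1,0,0,1,2,0,0,2,3], [1,0,0,3,3,0,2,2,2]), ([1,0,0,1,2,0,0,3,3], [1,0,0,3,3,0,3,3,2]), ([1,0,0,1,2,0,1,0,3], [1,0,0,3,3,0,2,0,2]),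
   ([1,0,0,1,2,0,1,1,3], [1,0,0,3,3,0,3,1,2]), ([1,0,0,1,2,0,1,2,3], [1,0,0,3,3,0,0,2,2]), ([1,0,0,1,2,0,1,3,3], [1,0,0,3,3,0,1,3,2]), ([1,0,0,1,2,0,2,0,3], [1,0,0,3,3,0,3,0,2]),
   ([1,0,0,1,2,0,2,1,3], [1,0,0,3,3,0,2,1,2]), ([1,0,0,1,2,0,2,2,3], [1,0,0,3,3,0,1,2,2]), ([1,0,0,1,2,0,2,3,3], [1,0,0,3,3,0,0,3,2]), ([1,0,0,1,2,0,3,0,3], [1,0,0,3,3,0,1,0,2]),
   ([1,0,0,1,2,0,3,1,3], [1,0,0,3,3,0,0,1,2]), ([1,0,0,1,2,0,3,2,3], [1,0,0,3,3,0,3,2,2]), ([1,0,0,1,2,0,3,3,3], [1,0,0,3,3,0,2,3,2]), ([1,0,0,1,3,0,0,0,2], [1,0,0,2,2,0,0,0,3]),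
   ([1,0,0,1,3,0,0,1,2], [1,0,0,2,2,0,1,1,3]), ([1,0,0,1,3,0,0,2,2], [1,0,0,2,2,0,2,2,3]), ([1,0,0,1,3,0,0,3,2], [1,0,0,2,2,0,3,3,3]), ([1,0,0,1,3,0,1,0,2], [1,0,0,2,2,0,3,0,3]),
   ([1,0,0,1,3,0,1,1,2], [1,0,0,2,2,0,2,1,3]), ([1,0,0,1,3,0,1,2,2], [1,0,0,2,2,0,1,2,3]), ([1,0,0,1,3,0,1,3,2], [1,0,0,2,2,0,0,3,3]), ([1,0,0,1,3,0,2,0,2], [1,0,0,2,2,0,1,0,3]),
   ([1,0,0,1,3,0,2,1,2], [1,0,0,2,2,0,0,1,3]), ([1,0,0,1,3,0,2,2,2], [1,0,0,2,2,0,3,2,3]), ([1,0,0,1,3,0,2,3,2], [1,0,0,2,2,0,2,3,3]), ([1,0,0,1,3,0,3,0,2], [1,0,0,2,2,0,2,0,3]),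
   ([1,0,0,1,3,0,3,1,2], [1,0,0,2,2,0,3,1,3]), ([1,0,0,1,3,0,3,2,2], [1,0,0,2,2,0,0,2,3]), ([1,0,0,1,3,0,3,3,2], [1,0,0,2,2,0,1,3,3]), ([1,0,0,2,0,1,0,1,0], [1,0,0,0,0,1,2,1,0]),
   ([1,0,0,2,0,1,1,1,0], [1,0,0,1,0,1,2,1,0]), ([1,0,0,2,0,1,2,1,0], [1,0,0,2,0,1,2,1,0]), ([1,0,0,2,0,1,3,1,0], [1,0,0,3,0,1,2,1,0]), ([1,0,0,2,0,2,0,3,0], [1,0,0,0,0,2,1,3,0]),
   ([1,0,0,2,0,2,1,3,0], [1,0,0,2,0,2,1,3,0]), ([1,0,0,2,0,2,2,3,0], [1,0,0,3,0,2,1,3,0]), ([1,0,0,2,0,2,3,3,0], [1,0,0,1,0,2,1,3,0]), ([1,0,0,2,0,3,0,2,0], [1,0,0,0,0,3,3,2,0]),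
   ([1,0,0,2,0,3,1,2,0], [1,0,0,3,0,3,3,2,0]), ([1,0,0,2,0,3,2,2,0], [1,0,0,1,0,3,3,2,0]), ([1,0,0,2,0,3,3,2,0], [1,0,0,2,0,3,3,2,0]), ([1,0,0,2,1,0,0,0,1], [1,0,0,2,1,0,0,0,1]),
   ([1,0,0,2,1,0,0,1,1], [1,0,0,2,1,0,2,1,1]), ([1,0,0,2,1,0,0,2,1], [1,0,0,2,1,0,3,2,1]), ([1,0,0,2,1,0,0,3,1], [1,0,0,2,1,0,1,3,1]), ([1,0,0,2,1,0,1,0,1], [1,0,0,2,1,0,1,0,1]),
   ([1,0,0,2,1,0,1,1,1], [1,0,0,2,1,0,3,1,1]), ([1,0,0,2,1,0,1,2,1], [1,0,0,2,1,0,2,2,1]), ([1,0,0,2,1,0,1,3,1], [1,0,0,2,1,0,0,3,1]), ([1,0,0,2,1,0,2,0,1], [1,0,0,2,1,0,2,0,1]),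
   ([1,0,0,2,1,0,2,1,1], [1,0,0,2,1,0,0,1,1]), ([1,0,0,2,1,0,2,2,1], [1,0,0,2,1,0,1,2,1]), ([1,0,0,2,1,0,2,3,1], [1,0,0,2,1,0,3,3,1]), ([1,0,0,2,1,0,3,0,1], [1,0,0,2,1,0,3,0,1]),
   ([1,0,0,2,1,0,3,1,1], [1,0,0,2,1,0,1,1,1]), ([1,0,0,2,1,0,3,2,1], [1,0,0,2,1,0,0,2,1]), ([1,0,0,2,1,0,3,3,1], [1,0,0,2,1,0,2,3,1]), ([1,0,0,2,2,0,0,0,3], [1,0,0,1,3,0,0,0,2]),
   ([1,0,0,2,2,0,0,1,3], [1,0,0,1,3,0,2,1,2]), ([1,0,0,2,2,0,0,2,3], [1,0,0,1,3,0,3,2,2]), ([1,0,0,2,2,0,0,3,3], [1,0,0,1,3,0,1,3,2]), ([1,0,0,2,2,0,1,0,3], [1,0,0,1,3,0,2,0,2]),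
   ([1,0,0,2,2,0,1,1,3], [1,0,0,1,3,0,0,1,2]), ([1,0,0,2,2,0,1,2,3], [1,0,0,1,3,0,1,2,2]), ([1,0,0,2,2,0,1,3,3], [1,0,0,1,3,0,3,3,2]), ([1,0,0,2,2,0,2,0,3], [1,0,0,1,3,0,3,0,2]),
   ([1,0,0,2,2,0,2,1,3], [1,0,0,1,3,0,1,1,2]), ([1,0,0,2,2,0,2,2,3], [1,0,0,1,3,0,0,2,2]), ([1,0,0,2,2,0,2,3,3], [1,0,0,1,3,0,2,3,2]), ([1,0,0,2,2,0,3,0,3], [1,0,0,1,3,0,1,0,2]),
   ([1,0,0,2,2,0,3,1,3], [1,0,0,1,3,0,3,1,2]), ([1,0,0,2,2,0,3,2,3], [1,0,0,1,3,0,2,2,2]), ([1,0,0,2,2,0,3,3,3], [1,0,0,1,3,0,0,3,2]), ([1,0,0,2,3,0,0,0,2], [1,0,0,3,2,0,0,0,3]),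
   ([1,0,0,2,3,0,0,1,2], [1,0,0,3,2,0,2,1,3]), ([1,0,0,2,3,0,0,2,2], [1,0,0,3,2,0,3,2,3]), ([1,0,0,2,3,0,0,3,2], [1,0,0,3,2,0,1,3,3]), ([1,0,0,2,3,0,1,0,2], [1,0,0,3,2,0,3,0,3]),
   ([1,0,0,2,3,0,1,1,2], [1,0,0,3,2,0,1,1,3]), ([1,0,0,2,3,0,1,2,2], [1,0,0,3,2,0,0,2,3]), ([1,0,0,2,3,0,1,3,2], [1,0,0,3,2,0,2,3,3]), ([1,0,0,2,3,0,2,0,2], [1,0,0,3,2,0,1,0,3]),
   ([1,0,0,2,3,0,2,1,2], [1,0,0,3,2,0,3,1,3]), ([1,0,0,2,3,0,2,2,2], [1,0,0,3,2,0,2,2,3]), ([1,0,0,2,3,0,2,3,2], [1,0,0,3,2,0,0,3,3]), ([1,0,0,2,3,0,3,0,2], [1,0,0,3,2,0,2,0,3]),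
   ([1,0,0,2,3,0,3,1,2], [1,0,0,3,2,0,0,1,3]), ([1,0,0,2,3,0,3,2,2], [1,0,0,3,2,0,1,2,3]), ([1,0,0,2,3,0,3,3,2], [1,0,0,3,2,0,3,3,3]), ([1,0,0,3,0,1,0,1,0], [1,0,0,0,0,1,3,1,0]),
   ([1,0,0,3,0,1,1,1,0], [1,0,0,1,0,1,3,1,0]), ([1,0,0,3,0,1,2,1,0], [1,0,0,2,0,1,3,1,0]), ([1,0,0,3,0,1,3,1,0], [1,0,0,3,0,1,3,1,0]), ([1,0,0,3,0,2,0,3,0], [1,0,0,0,0,2,2,3,0]),
   ([1,0,0,3,0,2,1,3,0], [1,0,0,2,0,2,2,3,0]), ([1,0,0,3,0,2,2,3,0], [1,0,0,3,0,2,2,3,0]), ([1,0,0,3,0,2,3,3,0], [1,0,0,1,0,2,2,3,0]), ([1,0,0,3,0,3,0,2,0], [1,0,0,0,0,3,1,2,0]),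
   ([1,0,0,3,0,3,1,2,0], [1,0,0,3,0,3,1,2,0]), ([1,0,0,3,0,3,2,2,0], [1,0,0,1,0,3,1,2,0]), ([1,0,0,3,0,3,3,2,0], [1,0,0,2,0,3,1,2,0]), ([1,0,0,3,1,0,0,0,1], [1,0,0,3,1,0,0,0,1]),
   ([1,0,0,3,1,0,0,1,1], [1,0,0,3,1,0,3,1,1]), ([1,0,0,3,1,0,0,2,1], [1,0,0,3,1,0,1,2,1]), ([1,0,0,3,1,0,0,3,1], [1,0,0,3,1,0,2,3,1]), ([1,0,0,3,1,0,1,0,1], [1,0,0,3,1,0,1,0,1]),
   ([1,0,0,3,1,0,1,1,1], [1,0,0,3,1,0,2,1,1]), ([1,0,0,3,1,0,1,2,1], [1,0,0,3,1,0,0,2,1]), ([1,0,0,3,1,0,1,3,1], [1,0,0,3,1,0,3,3,1]), ([1,0,0,3,1,0,2,0,1], [1,0,0,3,1,0,2,0,1]),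
   ([1,0,0,3,1,0,2,1,1], [1,0,0,3,1,0,1,1,1]), ([1,0,0,3,1,0,2,2,1], [1,0,0,3,1,0,3,2,1]), ([1,0,0,3,1,0,2,3,1], [1,0,0,3,1,0,0,3,1]), ([1,0,0,3,1,0,3,0,1], [1,0,0,3,1,0,3,0,1]),
   ([1,0,0,3,1,0,3,1,1], [1,0,0,3,1,0,0,1,1]), ([1,0,0,3,1,0,3,2,1], [1,0,0,3,1,0,2,2,1]), ([1,0,0,3,1,0,3,3,1], [1,0,0,3,1,0,1,3,1]), ([1,0,0,3,2,0,0,0,3], [1,0,0,2,3,0,0,0,2]),
   ([1,0,0,3,2,0,0,1,3], [1,0,0,2,3,0,3,1,2]), ([1,0,0,3,2,0,0,2,3], [1,0,0,2,3,0,1,2,2]), ([1,0,0,3,2,0,0,3,3], [1,0,0,2,3,0,2,3,2]), ([1,0,0,3,2,0,1,0,3], [1,0,0,2,3,0,2,0,2]),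
   ([1,0,0,3,2,0,1,1,3], [1,0,0,2,3,0,1,1,2]), ([1,0,0,3,2,0,1,2,3], [1,0,0,2,3,0,3,2,2]), ([1,0,0,3,2,0,1,3,3], [1,0,0,2,3,0,0,3,2]), ([1,0,0,3,2,0,2,0,3], [1,0,0,2,3,0,3,0,2]),
   ([1,0,0,3,2,0,2,1,3], [1,0,0,2,3,0,0,1,2]), ([1,0,0,3,2,0,2,2,3], [1,0,0,2,3,0,2,2,2]), ([1,0,0,3,2,0,2,3,3], [1,0,0,2,3,0,1,3,2]), ([1,0,0,3,2,0,3,0,3], [1,0,0,2,3,0,1,0,2]),
   ([1,0,0,3,2,0,3,1,3], [1,0,0,2,3,0,2,1,2]), ([1,0,0,3,2,0,3,2,3], [1,0,0,2,3,0,0,2,2]), ([1,0,0,3,2,0,3,3,3], [1,0,0,2,3,0,3,3,2]), ([1,0,0,3,3,0,0,0,2], [1,0,0,1,2,0,0,0,3]),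
   ([1,0,0,3,3,0,0,1,2], [1,0,0,1,2,0,3,1,3]), ([1,0,0,3,3,0,0,2,2], [1,0,0,1,2,0,1,2,3]), ([1,0,0,3,3,0,0,3,2], [1,0,0,1,2,0,2,3,3]), ([1,0,0,3,3,0,1,0,2], [1,0,0,1,2,0,3,0,3]),
   ([1,0,0,3,3,0,1,1,2], [1,0,0,1,2,0,0,1,3]), ([1,0,0,3,3,0,1,2,2], [1,0,0,1,2,0,2,2,3]), ([1,0,0,3,3,0,1,3,2], [1,0,0,1,2,0,1,3,3]), ([1,0,0,3,3,0,2,0,2], [1,0,0,1,2,0,1,0,3]),
   ([1,0,0,3,3,0,2,1,2], [1,0,0,1,2,0,2,1,3]), ([1,0,0,3,3,0,2,2,2], [1,0,0,1,2,0,0,2,3]), ([1,0,0,3,3,0,2,3,2], [1,0,0,1,2,0,3,3,3]), ([1,0,0,3,3,0,3,0,2], [1,0,0,1,2,0,2,0,3]),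
   ([1,0,0,3,3,0,3,1,2], [1,0,0,1,2,0,1,1,3]), ([1,0,0,3,3,0,3,2,2], [1,0,0,1,2,0,3,2,3]), ([1,0,0,3,3,0,3,3,2], [1,0,0,1,2,0,0,3,3])]

def act0 : List (ℕ × ℕ × ℕ × ℕ × ℕ) :=
  [(32, 1, 1, 1, 1), (52, 2, 3, 3, 2), (72, 3, 2, 2, 3), (148, 1, 0, 1, 1),
   (92, 1, 0, 0, 1), (276, 1, 0, 3, 1), (220, 1, 0, 2, 1), (165, 2, 0, 2, 3),
   (237, 2, 0, 3, 3), (109, 2, 0, 0, 3), (293, 2, 0, 1, 3), (182, 3, 0, 3, 2),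
   (310, 3, 0, 2, 2), (254, 3, 0, 1, 2), (126, 3, 0, 0, 2), (31, 1, 0, 1, 1),
   (71, 1, 0, 2, 3), (51, 1, 0, 3, 2), (4, 1, 1, 1, 0), (9, 2, 2, 2, 0),
   (14, 3, 3, 3, 0), (54, 3, 2, 2, 2), (34, 3, 3, 3, 1), (74, 3, 1, 1, 3),
   (73, 2, 3, 3, 3), (53, 2, 1, 1, 2), (33, 2, 2, 2, 1), (147, 1, 1, 1, 1),
   (135, 1, 1, 1, 1), (181, 1, 1, 2, 2), (166, 1, 1, 3, 3), (76, 1, 1, 1, 1),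
   (91, 1, 1, 1, 1), (110, 1, 1, 3, 3), (125, 1, 1, 2, 2), (309, 1, 1, 2, 2),
   (294, 1, 1, 3, 3), (275, 1, 1, 1, 1), (257, 1, 1, 1, 1), (238, 1, 1, 3, 3),
   (253, 1, 1, 2, 2), (198, 1, 1, 1, 1), (219, 1, 1, 1, 1), (179, 2, 3, 3, 2),
   (139, 2, 3, 3, 2), (164, 2, 3, 1, 3), (149, 2, 3, 2, 1), (221, 2, 3, 2, 1),
   (236, 2, 3, 1, 3), (202, 2, 3, 3, 2), (251, 2, 3, 3, 2), (80, 2, 3, 3, 2),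
   (123, 2, 3, 3, 2), (93, 2, 3, 2, 1), (108, 2, 3, 1, 3), (292, 2, 3, 1, 3),
   (277, 2, 3, 2, 1), (307, 2, 3, 3, 2), (261, 2, 3, 3, 2), (163, 3, 2, 2, 3),
   (143, 3, 2, 2, 3), (150, 3, 2, 3, 1), (180, 3, 2, 1, 2), (278, 3, 2, 3, 1),
   (308, 3, 2, 1, 2), (291, 3, 2, 2, 3), (265, 3, 2, 2, 3), (252, 3, 2, 1, 2),
   (222, 3, 2, 3, 1), (206, 3, 2, 2, 3), (235, 3, 2, 2, 3), (84, 3, 2, 2, 3),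
   (107, 3, 2, 2, 3), (124, 3, 2, 1, 2), (94, 3, 2, 3, 1), (88, 1, 0, 1, 1),
   (152, 1, 0, 0, 1), (216, 1, 0, 3, 1), (280, 1, 0, 2, 1), (122, 1, 0, 3, 2),
   (186, 1, 0, 0, 2), (250, 1, 0, 2, 2), (314, 1, 0, 1, 2), (105, 1, 0, 2, 3),
   (169, 1, 0, 0, 3), (233, 1, 0, 1, 3), (297, 1, 0, 3, 3), (87, 1, 1, 1, 1),
   (75, 1, 1, 1, 1), (121, 1, 1, 2, 2), (106, 1, 1, 3, 3), (136, 1, 1, 1, 1),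
   (151, 1, 1, 1, 1), (170, 1, 1, 3, 3), (185, 1, 1, 2, 2), (249, 1, 1, 2, 2),
   (234, 1, 1, 3, 3), (215, 1, 1, 1, 1), (197, 1, 1, 1, 1), (298, 1, 1, 3, 3),
   (313, 1, 1, 2, 2), (258, 1, 1, 1, 1), (279, 1, 1, 1, 1), (103, 1, 2, 2, 3),
   (120, 1, 2, 1, 2), (83, 1, 2, 2, 3), (90, 1, 2, 3, 1), (144, 1, 2, 2, 3),
   (154, 1, 2, 3, 1), (167, 1, 2, 2, 3), (184, 1, 2, 1, 2), (218, 1, 2, 3, 1),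
   (205, 1, 2, 2, 3), (248, 1, 2, 1, 2), (231, 1, 2, 2, 3), (312, 1, 2, 1, 2),
   (295, 1, 2, 2, 3), (282, 1, 2, 3, 1), (266, 1, 2, 2, 3), (119, 1, 3, 3, 2),
   (104, 1, 3, 1, 3), (89, 1, 3, 2, 1), (79, 1, 3, 3, 2), (140, 1, 3, 3, 2),
   (153, 1, 3, 2, 1), (168, 1, 3, 1, 3), (183, 1, 3, 3, 2), (232, 1, 3, 1, 3),
   (247, 1, 3, 3, 2), (201, 1, 3, 3, 2), (217, 1, 3, 2, 1), (281, 1, 3, 2, 1),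
   (262, 1, 3, 3, 2), (311, 1, 3, 3, 2), (296, 1, 3, 1, 3), (3, 1, 1, 0, 1),
   (0, 1, 1, 1, 1), (13, 1, 2, 2, 1), (10, 1, 3, 3, 1), (11, 2, 3, 0, 2),
   (1, 2, 3, 3, 2), (8, 2, 1, 1, 2), (5, 2, 2, 2, 2), (7, 3, 2, 0, 3),
   (2, 3, 2, 2, 3), (6, 3, 3, 3, 3), (12, 3, 1, 1, 3), (27, 1, 1, 0, 1),
   (28, 1, 0, 0, 1), (29, 1, 3, 0, 1), (30, 1, 2, 0, 1), (18, 1, 0, 0, 1),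
   (15, 1, 1, 0, 1), (24, 1, 2, 0, 1), (21, 1, 3, 0, 1), (70, 1, 2, 0, 2),
   (68, 1, 0, 0, 2), (67, 1, 1, 0, 2), (69, 1, 3, 0, 2), (57, 1, 3, 0, 3),
   (56, 1, 0, 0, 3), (58, 1, 2, 0, 3), (55, 1, 1, 0, 3), (59, 2, 2, 0, 3),
   (62, 2, 3, 0, 3), (60, 2, 0, 0, 3), (61, 2, 1, 0, 3), (19, 2, 0, 0, 3),
   (22, 2, 1, 0, 3), (16, 2, 2, 0, 3), (25, 2, 3, 0, 3), (50, 2, 3, 0, 1),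
   (49, 2, 1, 0, 1), (48, 2, 0, 0, 1), (47, 2, 2, 0, 1), (37, 2, 1, 0, 2),
   (35, 2, 2, 0, 2), (36, 2, 0, 0, 2), (38, 2, 3, 0, 2), (43, 3, 3, 0, 2),
   (45, 3, 2, 0, 2), (46, 3, 1, 0, 2), (44, 3, 0, 0, 2), (20, 3, 0, 0, 2),
   (26, 3, 1, 0, 2), (23, 3, 2, 0, 2), (17, 3, 3, 0, 2), (42, 3, 1, 0, 3),
   (39, 3, 3, 0, 3), (41, 3, 2, 0, 3), (40, 3, 0, 0, 3), (65, 3, 2, 0, 1),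
   (66, 3, 1, 0, 1), (63, 3, 3, 0, 1), (64, 3, 0, 0, 1), (285, 3, 0, 2, 2),
   (173, 3, 0, 0, 2), (117, 3, 0, 1, 2), (229, 3, 0, 3, 2), (268, 3, 0, 1, 3),
   (156, 3, 0, 0, 3), (100, 3, 0, 3, 3), (212, 3, 0, 2, 3), (302, 3, 0, 3, 1),
   (190, 3, 0, 0, 1), (134, 3, 0, 2, 1), (246, 3, 0, 1, 1), (299, 3, 2, 3, 1),
   (269, 3, 2, 2, 3), (259, 3, 2, 3, 1), (284, 3, 2, 1, 2), (141, 3, 2, 3, 1),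
   (172, 3, 2, 1, 2), (187, 3, 2, 3, 1), (157, 3, 2, 2, 3), (116, 3, 2, 1, 2),
   (82, 3, 2, 3, 1), (101, 3, 2, 2, 3), (131, 3, 2, 3, 1), (213, 3, 2, 2, 3),
   (243, 3, 2, 3, 1), (228, 3, 2, 1, 2), (200, 3, 2, 3, 1), (267, 3, 3, 1, 3),
   (301, 3, 3, 2, 1), (286, 3, 3, 3, 2), (255, 3, 3, 1, 3), (137, 3, 3, 1, 3),
   (174, 3, 3, 3, 2), (189, 3, 3, 2, 1), (155, 3, 3, 1, 3), (133, 3, 3, 2, 1),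
   (99, 3, 3, 1, 3), (78, 3, 3, 1, 3), (118, 3, 3, 3, 2), (230, 3, 3, 3, 2),
   (196, 3, 3, 1, 3), (211, 3, 3, 1, 3), (245, 3, 3, 2, 1), (283, 3, 1, 2, 2),
   (263, 3, 1, 2, 2), (270, 3, 1, 3, 3), (300, 3, 1, 1, 1), (145, 3, 1, 2, 2),
   (171, 3, 1, 2, 2), (188, 3, 1, 1, 1), (158, 3, 1, 3, 3), (102, 3, 1, 3, 3),
   (132, 3, 1, 1, 1), (115, 3, 1, 2, 2), (86, 3, 1, 2, 2), (244, 3, 1, 1, 1),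
   (214, 3, 1, 3, 3), (204, 3, 1, 2, 2), (227, 3, 1, 2, 2), (242, 2, 0, 3, 3),
   (194, 2, 0, 0, 3), (306, 2, 0, 2, 3), (130, 2, 0, 1, 3), (225, 2, 0, 2, 1),
   (177, 2, 0, 0, 1), (289, 2, 0, 1, 1), (113, 2, 0, 3, 1), (208, 2, 0, 1, 2),
   (160, 2, 0, 0, 2), (272, 2, 0, 3, 2), (96, 2, 0, 2, 2), (223, 2, 3, 2, 1),
   (210, 2, 3, 3, 2), (240, 2, 3, 1, 3), (203, 2, 3, 2, 1), (146, 2, 3, 2, 1),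
   (192, 2, 3, 1, 3), (162, 2, 3, 3, 2), (175, 2, 3, 2, 1), (274, 2, 3, 3, 2),
   (287, 2, 3, 2, 1), (264, 2, 3, 2, 1), (304, 2, 3, 1, 3), (128, 2, 3, 1, 3),
   (85, 2, 3, 2, 1), (111, 2, 3, 2, 1), (98, 2, 3, 3, 2), (239, 2, 1, 3, 3),
   (199, 2, 1, 3, 3), (224, 2, 1, 1, 1), (209, 2, 1, 2, 2), (142, 2, 1, 3, 3),
   (191, 2, 1, 3, 3), (161, 2, 1, 2, 2), (176, 2, 1, 1, 1), (288, 2, 1, 1, 1),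
   (273, 2, 1, 2, 2), (303, 2, 1, 3, 3), (260, 2, 1, 3, 3), (97, 2, 1, 2, 2),
   (112, 2, 1, 1, 1), (81, 2, 1, 3, 3), (127, 2, 1, 3, 3), (207, 2, 2, 1, 2),
   (226, 2, 2, 3, 1), (195, 2, 2, 1, 2), (241, 2, 2, 2, 3), (138, 2, 2, 1, 2),
   (193, 2, 2, 2, 3), (159, 2, 2, 1, 2), (178, 2, 2, 3, 1), (305, 2, 2, 2, 3),
   (256, 2, 2, 1, 2), (290, 2, 2, 3, 1), (271, 2, 2, 1, 2), (114, 2, 2, 3, 1),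
   (95, 2, 2, 1, 2), (129, 2, 2, 2, 3), (77, 2, 2, 1, 2)]

def act1 : List (ℕ × ℕ × ℕ × ℕ × ℕ) :=
  [(41, 2, 3, 3, 2), (49, 3, 2, 2, 3), (69, 1, 1, 1, 1), (270, 2, 0, 2, 3),
   (222, 2, 0, 1, 3), (154, 2, 0, 3, 3), (98, 2, 0, 0, 3), (284, 3, 0, 3, 2),
   (112, 3, 0, 0, 2), (236, 3, 0, 2, 2), (168, 3, 0, 1, 2), (301, 1, 0, 1, 1),
   (185, 1, 0, 2, 1), (129, 1, 0, 0, 1), (253, 1, 0, 3, 1), (47, 1, 0, 2, 3),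
   (39, 1, 0, 3, 2), (67, 1, 0, 1, 1), (68, 3, 3, 3, 1), (48, 3, 1, 1, 3),
   (40, 3, 2, 2, 2), (42, 2, 1, 1, 2), (70, 2, 2, 2, 1), (50, 2, 3, 3, 3),
   (6, 2, 2, 2, 0), (8, 3, 3, 3, 0), (13, 1, 1, 1, 0), (283, 2, 3, 3, 2),
   (302, 2, 3, 2, 1), (255, 2, 3, 3, 2), (269, 2, 3, 1, 3), (221, 2, 3, 1, 3),
   (198, 2, 3, 3, 2), (254, 2, 3, 2, 1), (235, 2, 3, 3, 2), (186, 2, 3, 2, 1),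
   (167, 2, 3, 3, 2), (153, 2, 3, 1, 3), (136, 2, 3, 3, 2), (77, 2, 3, 3, 2),
   (97, 2, 3, 1, 3), (111, 2, 3, 3, 2), (130, 2, 3, 2, 1), (267, 3, 2, 2, 3),
   (285, 3, 2, 1, 2), (259, 3, 2, 2, 3), (300, 3, 2, 3, 1), (81, 3, 2, 2, 3),
   (128, 3, 2, 3, 1), (95, 3, 2, 2, 3), (113, 3, 2, 1, 2), (252, 3, 2, 3, 1),
   (202, 3, 2, 2, 3), (237, 3, 2, 1, 2), (219, 3, 2, 2, 3), (169, 3, 2, 1, 2),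
   (151, 3, 2, 2, 3), (184, 3, 2, 3, 1), (140, 3, 2, 2, 3), (299, 1, 1, 1, 1),
   (268, 1, 1, 3, 3), (263, 1, 1, 1, 1), (286, 1, 1, 2, 2), (152, 1, 1, 3, 3),
   (183, 1, 1, 1, 1), (170, 1, 1, 2, 2), (144, 1, 1, 1, 1), (85, 1, 1, 1, 1),
   (114, 1, 1, 2, 2), (127, 1, 1, 1, 1), (96, 1, 1, 3, 3), (238, 1, 1, 2, 2),
   (206, 1, 1, 1, 1), (220, 1, 1, 3, 3), (251, 1, 1, 1, 1), (104, 1, 0, 3, 2),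
   (228, 1, 0, 1, 2), (292, 1, 0, 0, 2), (176, 1, 0, 2, 2), (90, 1, 0, 2, 3),
   (214, 1, 0, 3, 3), (278, 1, 0, 0, 3), (162, 1, 0, 1, 3), (121, 1, 0, 1, 1),
   (245, 1, 0, 2, 1), (309, 1, 0, 0, 1), (193, 1, 0, 3, 1), (87, 1, 2, 2, 3),
   (120, 1, 2, 3, 1), (105, 1, 2, 1, 2), (79, 1, 2, 2, 3), (229, 1, 2, 1, 2),
   (200, 1, 2, 2, 3), (211, 1, 2, 2, 3), (244, 1, 2, 3, 1), (261, 1, 2, 2, 3),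
   (293, 1, 2, 1, 2), (308, 1, 2, 3, 1), (275, 1, 2, 2, 3), (192, 1, 2, 3, 1),
   (159, 1, 2, 2, 3), (142, 1, 2, 2, 3), (177, 1, 2, 1, 2), (103, 1, 3, 3, 2),
   (75, 1, 3, 3, 2), (89, 1, 3, 1, 3), (122, 1, 3, 2, 1), (246, 1, 3, 2, 1),
   (213, 1, 3, 1, 3), (196, 1, 3, 3, 2), (227, 1, 3, 3, 2), (257, 1, 3, 3, 2),
   (291, 1, 3, 3, 2), (310, 1, 3, 2, 1), (277, 1, 3, 1, 3), (161, 1, 3, 1, 3),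
   (194, 1, 3, 2, 1), (175, 1, 3, 3, 2), (138, 1, 3, 3, 2), (119, 1, 1, 1, 1),
   (88, 1, 1, 3, 3), (83, 1, 1, 1, 1), (106, 1, 1, 2, 2), (212, 1, 1, 3, 3),
   (243, 1, 1, 1, 1), (230, 1, 1, 2, 2), (204, 1, 1, 1, 1), (265, 1, 1, 1, 1),
   (294, 1, 1, 2, 2), (307, 1, 1, 1, 1), (276, 1, 1, 3, 3), (178, 1, 1, 2, 2),
   (146, 1, 1, 1, 1), (160, 1, 1, 3, 3), (191, 1, 1, 1, 1), (241, 3, 0, 1, 3),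
   (189, 3, 0, 2, 3), (313, 3, 0, 0, 3), (125, 3, 0, 3, 3), (224, 3, 0, 3, 1),
   (172, 3, 0, 1, 1), (296, 3, 0, 0, 1), (108, 3, 0, 2, 1), (210, 3, 0, 2, 2),
   (158, 3, 0, 3, 2), (282, 3, 0, 0, 2), (94, 3, 0, 1, 2), (239, 3, 3, 1, 3),
   (203, 3, 3, 1, 3), (226, 3, 3, 2, 1), (208, 3, 3, 3, 2), (156, 3, 3, 3, 2),
   (174, 3, 3, 2, 1), (145, 3, 3, 1, 3), (187, 3, 3, 1, 3), (266, 3, 3, 1, 3),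
   (311, 3, 3, 1, 3), (280, 3, 3, 3, 2), (298, 3, 3, 2, 1), (110, 3, 3, 2, 1),
   (92, 3, 3, 3, 2), (123, 3, 3, 1, 3), (84, 3, 3, 1, 3), (207, 3, 1, 2, 2),
   (225, 3, 1, 1, 1), (199, 3, 1, 2, 2), (240, 3, 1, 3, 3), (173, 3, 1, 1, 1),
   (155, 3, 1, 2, 2), (188, 3, 1, 3, 3), (141, 3, 1, 2, 2), (262, 3, 1, 2, 2),
   (312, 3, 1, 3, 3), (279, 3, 1, 2, 2), (297, 3, 1, 1, 1), (124, 3, 1, 3, 3),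
   (80, 3, 1, 2, 2), (109, 3, 1, 1, 1), (91, 3, 1, 2, 2), (223, 3, 2, 3, 1),
   (209, 3, 2, 1, 2), (242, 3, 2, 2, 3), (195, 3, 2, 3, 1), (190, 3, 2, 2, 3),
   (137, 3, 2, 3, 1), (171, 3, 2, 3, 1), (157, 3, 2, 1, 2), (258, 3, 2, 3, 1),
   (314, 3, 2, 2, 3), (281, 3, 2, 1, 2), (295, 3, 2, 3, 1), (93, 3, 2, 1, 2),
   (107, 3, 2, 3, 1), (76, 3, 2, 3, 1), (126, 3, 2, 2, 3), (150, 2, 0, 2, 1),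
   (102, 2, 0, 3, 1), (274, 2, 0, 0, 1), (218, 2, 0, 1, 1), (181, 2, 0, 1, 2),
   (133, 2, 0, 2, 2), (305, 2, 0, 0, 2), (249, 2, 0, 3, 2), (164, 2, 0, 3, 3),
   (116, 2, 0, 1, 3), (288, 2, 0, 0, 3), (232, 2, 0, 2, 3), (163, 2, 1, 3, 3),
   (182, 2, 1, 2, 2), (135, 2, 1, 3, 3), (149, 2, 1, 1, 1), (134, 2, 1, 2, 2),
   (115, 2, 1, 3, 3), (101, 2, 1, 1, 1), (78, 2, 1, 3, 3), (256, 2, 1, 3, 3),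
   (273, 2, 1, 1, 1), (287, 2, 1, 3, 3), (306, 2, 1, 2, 2), (217, 2, 1, 1, 1),
   (197, 2, 1, 3, 3), (250, 2, 1, 2, 2), (231, 2, 1, 3, 3), (179, 2, 2, 1, 2),
   (166, 2, 2, 2, 3), (148, 2, 2, 3, 1), (143, 2, 2, 1, 2), (100, 2, 2, 3, 1),
   (86, 2, 2, 1, 2), (131, 2, 2, 1, 2), (118, 2, 2, 2, 3), (264, 2, 2, 1, 2),
   (272, 2, 2, 3, 1), (290, 2, 2, 2, 3), (303, 2, 2, 1, 2), (234, 2, 2, 2, 3),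
   (247, 2, 2, 1, 2), (205, 2, 2, 1, 2), (216, 2, 2, 3, 1), (147, 2, 3, 2, 1),
   (139, 2, 3, 2, 1), (180, 2, 3, 3, 2), (165, 2, 3, 1, 3), (117, 2, 3, 1, 3),
   (132, 2, 3, 3, 2), (82, 2, 3, 2, 1), (99, 2, 3, 2, 1), (260, 2, 3, 2, 1),
   (271, 2, 3, 2, 1), (289, 2, 3, 1, 3), (304, 2, 3, 3, 2), (248, 2, 3, 3, 2),
   (233, 2, 3, 1, 3), (215, 2, 3, 2, 1), (201, 2, 3, 2, 1), (7, 2, 3, 0, 2),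
   (14, 2, 2, 2, 2), (0, 2, 3, 3, 2), (5, 2, 1, 1, 2), (3, 3, 2, 0, 3),
   (9, 3, 1, 1, 3), (1, 3, 2, 2, 3), (12, 3, 3, 3, 3), (11, 1, 1, 0, 1),
   (4, 1, 3, 3, 1), (2, 1, 1, 1, 1), (10, 1, 2, 2, 1), (43, 2, 2, 0, 3),
   (46, 2, 1, 0, 3), (44, 2, 3, 0, 3), (45, 2, 0, 0, 3), (74, 2, 1, 0, 2),
   (72, 2, 3, 0, 2), (71, 2, 2, 0, 2), (73, 2, 0, 0, 2), (24, 2, 0, 0, 3),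
   (21, 2, 3, 0, 3), (18, 2, 1, 0, 3), (15, 2, 2, 0, 3), (36, 2, 3, 0, 1),
   (35, 2, 2, 0, 1), (38, 2, 1, 0, 1), (37, 2, 0, 0, 1), (27, 3, 3, 0, 2),
   (29, 3, 0, 0, 2), (30, 3, 2, 0, 2), (28, 3, 1, 0, 2), (54, 3, 2, 0, 1),
   (53, 3, 0, 0, 1), (52, 3, 1, 0, 1), (51, 3, 3, 0, 1), (25, 3, 0, 0, 2),
   (16, 3, 3, 0, 2), (22, 3, 1, 0, 2), (19, 3, 2, 0, 2), (64, 3, 1, 0, 3),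
   (65, 3, 0, 0, 3), (63, 3, 3, 0, 3), (66, 3, 2, 0, 3), (59, 1, 1, 0, 1),
   (60, 1, 2, 0, 1), (61, 1, 0, 0, 1), (62, 1, 3, 0, 1), (34, 1, 3, 0, 3),
   (31, 1, 1, 0, 3), (33, 1, 0, 0, 3), (32, 1, 2, 0, 3), (26, 1, 0, 0, 1),
   (20, 1, 3, 0, 1), (17, 1, 1, 0, 1), (23, 1, 2, 0, 1), (56, 1, 2, 0, 2),
   (58, 1, 3, 0, 2), (57, 1, 0, 0, 2), (55, 1, 1, 0, 2)]

def act2 : List (ℕ × ℕ × ℕ × ℕ × ℕ) :=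
  [(50, 1, 3, 1, 3), (70, 2, 2, 3, 1), (42, 3, 1, 2, 2), (164, 1, 0, 3, 1),
   (288, 1, 0, 2, 1), (232, 1, 0, 1, 1), (116, 1, 0, 0, 1), (181, 2, 0, 1, 3),
   (133, 2, 0, 0, 3), (305, 2, 0, 3, 3), (249, 2, 0, 2, 3), (150, 3, 0, 2, 2),
   (218, 3, 0, 3, 2), (102, 3, 0, 0, 2), (274, 3, 0, 1, 2), (47, 1, 0, 1, 3),
   (39, 1, 0, 2, 2), (67, 1, 0, 3, 1), (8, 1, 3, 1, 0), (13, 2, 1, 2, 0),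
   (6, 3, 2, 3, 0), (69, 3, 1, 2, 1), (49, 3, 2, 3, 3), (41, 3, 3, 1, 2),
   (40, 2, 2, 3, 2), (68, 2, 3, 1, 1), (48, 2, 1, 2, 3), (147, 1, 1, 2, 2),
   (180, 1, 1, 3, 3), (165, 1, 1, 1, 1), (139, 1, 1, 2, 2), (304, 1, 1, 3, 3),
   (271, 1, 1, 2, 2), (260, 1, 1, 2, 2), (289, 1, 1, 1, 1), (233, 1, 1, 1, 1),
   (201, 1, 1, 2, 2), (215, 1, 1, 2, 2), (248, 1, 1, 3, 3), (82, 1, 1, 2, 2),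
   (117, 1, 1, 1, 1), (132, 1, 1, 3, 3), (99, 1, 1, 2, 2), (179, 2, 3, 1, 3),
   (166, 2, 3, 2, 1), (148, 2, 3, 3, 2), (143, 2, 3, 1, 3), (86, 2, 3, 1, 3),
   (100, 2, 3, 3, 2), (118, 2, 3, 2, 1), (131, 2, 3, 1, 3), (290, 2, 3, 2, 1),
   (303, 2, 3, 1, 3), (264, 2, 3, 1, 3), (272, 2, 3, 3, 2), (216, 2, 3, 3, 2),
   (205, 2, 3, 1, 3), (247, 2, 3, 1, 3), (234, 2, 3, 2, 1), (163, 3, 2, 3, 1),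
   (149, 3, 2, 1, 2), (182, 3, 2, 2, 3), (135, 3, 2, 3, 1), (250, 3, 2, 2, 3),
   (197, 3, 2, 3, 1), (231, 3, 2, 3, 1), (217, 3, 2, 1, 2), (78, 3, 2, 3, 1),
   (134, 3, 2, 2, 3), (101, 3, 2, 1, 2), (115, 3, 2, 3, 1), (273, 3, 2, 1, 2),
   (287, 3, 2, 3, 1), (256, 3, 2, 3, 1), (306, 3, 2, 2, 3), (104, 1, 0, 3, 1),
   (228, 1, 0, 2, 1), (292, 1, 0, 1, 1), (176, 1, 0, 0, 1), (90, 1, 0, 2, 2),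
   (214, 1, 0, 1, 2), (278, 1, 0, 3, 2), (162, 1, 0, 0, 2), (121, 1, 0, 1, 3),
   (245, 1, 0, 3, 3), (309, 1, 0, 2, 3), (193, 1, 0, 0, 3), (87, 1, 1, 2, 2),
   (120, 1, 1, 3, 3), (105, 1, 1, 1, 1), (79, 1, 1, 2, 2), (244, 1, 1, 3, 3),
   (211, 1, 1, 2, 2), (200, 1, 1, 2, 2), (229, 1, 1, 1, 1), (293, 1, 1, 1, 1),
   (261, 1, 1, 2, 2), (275, 1, 1, 2, 2), (308, 1, 1, 3, 3), (142, 1, 1, 2, 2),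
   (177, 1, 1, 1, 1), (192, 1, 1, 3, 3), (159, 1, 1, 2, 2), (103, 1, 2, 3, 1),
   (75, 1, 2, 3, 1), (89, 1, 2, 1, 2), (122, 1, 2, 2, 3), (213, 1, 2, 1, 2),
   (246, 1, 2, 2, 3), (227, 1, 2, 3, 1), (196, 1, 2, 3, 1), (310, 1, 2, 2, 3),
   (277, 1, 2, 1, 2), (257, 1, 2, 3, 1), (291, 1, 2, 3, 1), (138, 1, 2, 3, 1),
   (175, 1, 2, 3, 1), (194, 1, 2, 2, 3), (161, 1, 2, 1, 2), (119, 1, 3, 1, 3),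
   (88, 1, 3, 3, 2), (83, 1, 3, 1, 3), (106, 1, 3, 2, 1), (230, 1, 3, 2, 1),
   (204, 1, 3, 1, 3), (212, 1, 3, 3, 2), (243, 1, 3, 1, 3), (276, 1, 3, 3, 2),
   (307, 1, 3, 1, 3), (294, 1, 3, 2, 1), (265, 1, 3, 1, 3), (146, 1, 3, 1, 3),
   (178, 1, 3, 2, 1), (191, 1, 3, 1, 3), (160, 1, 3, 3, 2), (3, 1, 2, 0, 1),
   (12, 1, 3, 1, 1), (9, 1, 1, 2, 1), (1, 1, 2, 3, 1), (11, 2, 1, 0, 2),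
   (10, 2, 2, 3, 2), (4, 2, 3, 1, 2), (2, 2, 1, 2, 2), (7, 3, 3, 0, 3),
   (5, 3, 1, 2, 3), (14, 3, 2, 3, 3), (0, 3, 3, 1, 3), (27, 1, 1, 0, 2),
   (28, 1, 3, 0, 2), (29, 1, 2, 0, 2), (30, 1, 0, 0, 2), (65, 1, 2, 0, 3),
   (63, 1, 1, 0, 3), (64, 1, 3, 0, 3), (66, 1, 0, 0, 3), (52, 1, 3, 0, 1),
   (53, 1, 2, 0, 1), (51, 1, 1, 0, 1), (54, 1, 0, 0, 1), (19, 1, 0, 0, 2),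
   (25, 1, 2, 0, 2), (22, 1, 3, 0, 2), (16, 1, 1, 0, 2), (59, 2, 2, 0, 1),
   (62, 2, 0, 0, 1), (60, 2, 1, 0, 1), (61, 2, 3, 0, 1), (57, 2, 3, 0, 2),
   (58, 2, 0, 0, 2), (55, 2, 2, 0, 2), (56, 2, 1, 0, 2), (32, 2, 1, 0, 3),
   (34, 2, 0, 0, 3), (33, 2, 3, 0, 3), (31, 2, 2, 0, 3), (20, 2, 0, 0, 1),
   (17, 2, 2, 0, 1), (26, 2, 3, 0, 1), (23, 2, 1, 0, 1), (43, 3, 3, 0, 3),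
   (45, 3, 1, 0, 3), (46, 3, 0, 0, 3), (44, 3, 2, 0, 3), (37, 3, 1, 0, 1),
   (36, 3, 2, 0, 1), (38, 3, 0, 0, 1), (35, 3, 3, 0, 1), (72, 3, 2, 0, 2),
   (71, 3, 3, 0, 2), (74, 3, 0, 0, 2), (73, 3, 1, 0, 2), (18, 3, 0, 0, 3),
   (21, 3, 2, 0, 3), (15, 3, 3, 0, 3), (24, 3, 1, 0, 3), (301, 3, 0, 1, 2),
   (129, 3, 0, 3, 2), (253, 3, 0, 2, 2), (185, 3, 0, 0, 2), (284, 3, 0, 3, 3),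
   (112, 3, 0, 2, 3), (236, 3, 0, 1, 3), (168, 3, 0, 0, 3), (270, 3, 0, 2, 1),
   (98, 3, 0, 1, 1), (222, 3, 0, 3, 1), (154, 3, 0, 0, 1), (299, 3, 2, 1, 2),
   (263, 3, 2, 1, 2), (286, 3, 2, 2, 3), (268, 3, 2, 3, 1), (114, 3, 2, 2, 3),
   (96, 3, 2, 3, 1), (127, 3, 2, 1, 2), (85, 3, 2, 1, 2), (220, 3, 2, 3, 1),
   (238, 3, 2, 2, 3), (206, 3, 2, 1, 2), (251, 3, 2, 1, 2), (144, 3, 2, 1, 2),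
   (183, 3, 2, 1, 2), (152, 3, 2, 3, 1), (170, 3, 2, 2, 3), (267, 3, 3, 2, 1),
   (285, 3, 3, 1, 3), (259, 3, 3, 2, 1), (300, 3, 3, 3, 2), (128, 3, 3, 3, 2),
   (81, 3, 3, 2, 1), (113, 3, 3, 1, 3), (95, 3, 3, 2, 1), (237, 3, 3, 1, 3),
   (219, 3, 3, 2, 1), (252, 3, 3, 3, 2), (202, 3, 3, 2, 1), (140, 3, 3, 2, 1),
   (184, 3, 3, 3, 2), (151, 3, 3, 2, 1), (169, 3, 3, 1, 3), (283, 3, 1, 3, 3),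
   (269, 3, 1, 1, 1), (302, 3, 1, 2, 2), (255, 3, 1, 3, 3), (97, 3, 1, 1, 1),
   (111, 3, 1, 3, 3), (77, 3, 1, 3, 3), (130, 3, 1, 2, 2), (254, 3, 1, 2, 2),
   (198, 3, 1, 3, 3), (235, 3, 1, 3, 3), (221, 3, 1, 1, 1), (136, 3, 1, 3, 3),
   (186, 3, 1, 2, 2), (153, 3, 1, 1, 1), (167, 3, 1, 3, 3), (210, 2, 0, 2, 3),
   (282, 2, 0, 1, 3), (94, 2, 0, 3, 3), (158, 2, 0, 0, 3), (241, 2, 0, 1, 1),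
   (313, 2, 0, 3, 1), (125, 2, 0, 2, 1), (189, 2, 0, 0, 1), (224, 2, 0, 3, 2),
   (296, 2, 0, 2, 2), (108, 2, 0, 1, 2), (172, 2, 0, 0, 2), (223, 2, 3, 3, 2),
   (242, 2, 3, 2, 1), (195, 2, 3, 3, 2), (209, 2, 3, 1, 3), (281, 2, 3, 1, 3),
   (258, 2, 3, 3, 2), (314, 2, 3, 2, 1), (295, 2, 3, 3, 2), (126, 2, 3, 2, 1),
   (107, 2, 3, 3, 2), (93, 2, 3, 1, 3), (76, 2, 3, 3, 2), (137, 2, 3, 3, 2),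
   (157, 2, 3, 1, 3), (171, 2, 3, 3, 2), (190, 2, 3, 2, 1), (239, 2, 1, 1, 1),
   (226, 2, 1, 2, 2), (208, 2, 1, 3, 3), (203, 2, 1, 1, 1), (298, 2, 1, 2, 2),
   (311, 2, 1, 1, 1), (266, 2, 1, 1, 1), (280, 2, 1, 3, 3), (92, 2, 1, 3, 3),
   (84, 2, 1, 1, 1), (123, 2, 1, 1, 1), (110, 2, 1, 2, 2), (145, 2, 1, 1, 1),
   (156, 2, 1, 3, 3), (174, 2, 1, 2, 2), (187, 2, 1, 1, 1), (207, 2, 2, 2, 3),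
   (199, 2, 2, 2, 3), (240, 2, 2, 3, 1), (225, 2, 2, 1, 2), (312, 2, 2, 3, 1),
   (297, 2, 2, 1, 2), (279, 2, 2, 2, 3), (262, 2, 2, 2, 3), (109, 2, 2, 1, 2),
   (124, 2, 2, 3, 1), (80, 2, 2, 2, 3), (91, 2, 2, 2, 3), (141, 2, 2, 2, 3),
   (155, 2, 2, 2, 3), (173, 2, 2, 1, 2), (188, 2, 2, 3, 1)]

def act3 : List (ℕ × ℕ × ℕ × ℕ × ℕ) :=
  [(56, 2, 2, 3, 1), (64, 3, 1, 2, 2), (36, 1, 3, 1, 3), (286, 2, 0, 1, 3),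
   (178, 2, 0, 2, 3), (110, 2, 0, 0, 3), (234, 2, 0, 3, 3), (300, 3, 0, 2, 2),
   (248, 3, 0, 1, 2), (192, 3, 0, 3, 2), (124, 3, 0, 0, 2), (269, 1, 0, 3, 1),
   (93, 1, 0, 0, 1), (217, 1, 0, 2, 1), (161, 1, 0, 1, 1), (63, 1, 0, 2, 2),
   (55, 1, 0, 3, 1), (35, 1, 0, 1, 3), (38, 3, 2, 3, 3), (66, 3, 3, 1, 2),
   (58, 3, 1, 2, 1), (57, 2, 3, 1, 1), (37, 2, 1, 2, 3), (65, 2, 2, 3, 2),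
   (10, 2, 1, 2, 0), (12, 3, 2, 3, 0), (5, 1, 3, 1, 0), (283, 2, 3, 1, 3),
   (259, 2, 3, 1, 3), (268, 2, 3, 2, 1), (301, 2, 3, 3, 2), (193, 2, 3, 3, 2),
   (160, 2, 3, 2, 1), (142, 2, 3, 1, 3), (175, 2, 3, 1, 3), (80, 2, 3, 1, 3),
   (107, 2, 3, 1, 3), (125, 2, 3, 3, 2), (92, 2, 3, 2, 1), (216, 2, 3, 2, 1),
   (249, 2, 3, 3, 2), (231, 2, 3, 1, 3), (201, 2, 3, 1, 3), (267, 3, 2, 3, 1),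
   (263, 3, 2, 3, 1), (302, 3, 2, 1, 2), (284, 3, 2, 2, 3), (250, 3, 2, 1, 2),
   (232, 3, 2, 2, 3), (215, 3, 2, 3, 1), (205, 3, 2, 3, 1), (176, 3, 2, 2, 3),
   (194, 3, 2, 1, 2), (146, 3, 2, 3, 1), (159, 3, 2, 3, 1), (84, 3, 2, 3, 1),
   (91, 3, 2, 3, 1), (108, 3, 2, 2, 3), (126, 3, 2, 1, 2), (299, 1, 1, 2, 2),
   (255, 1, 1, 2, 2), (285, 1, 1, 3, 3), (270, 1, 1, 1, 1), (76, 1, 1, 2, 2),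
   (123, 1, 1, 2, 2), (94, 1, 1, 1, 1), (109, 1, 1, 3, 3), (233, 1, 1, 3, 3),
   (218, 1, 1, 1, 1), (247, 1, 1, 2, 2), (197, 1, 1, 2, 2), (162, 1, 1, 1, 1),
   (177, 1, 1, 3, 3), (138, 1, 1, 2, 2), (191, 1, 1, 2, 2), (120, 1, 0, 2, 2),
   (304, 1, 0, 0, 2), (188, 1, 0, 1, 2), (252, 1, 0, 3, 2), (106, 1, 0, 1, 3),
   (290, 1, 0, 0, 3), (174, 1, 0, 3, 3), (238, 1, 0, 2, 3), (89, 1, 0, 3, 1),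
   (273, 1, 0, 0, 1), (157, 1, 0, 2, 1), (221, 1, 0, 1, 1), (87, 1, 2, 3, 1),
   (104, 1, 2, 2, 3), (83, 1, 2, 3, 1), (122, 1, 2, 1, 2), (264, 1, 2, 3, 1),
   (306, 1, 2, 1, 2), (271, 1, 2, 3, 1), (288, 1, 2, 2, 3), (190, 1, 2, 1, 2),
   (145, 1, 2, 3, 1), (172, 1, 2, 2, 3), (155, 1, 2, 3, 1), (236, 1, 2, 2, 3),
   (219, 1, 2, 3, 1), (254, 1, 2, 1, 2), (206, 1, 2, 3, 1), (103, 1, 3, 1, 3),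
   (88, 1, 3, 2, 1), (121, 1, 3, 3, 2), (79, 1, 3, 1, 3), (260, 1, 3, 1, 3),
   (305, 1, 3, 3, 2), (272, 1, 3, 2, 1), (287, 1, 3, 1, 3), (156, 1, 3, 2, 1),
   (171, 1, 3, 1, 3), (141, 1, 3, 1, 3), (189, 1, 3, 3, 2), (253, 1, 3, 3, 2),
   (202, 1, 3, 1, 3), (235, 1, 3, 1, 3), (220, 1, 3, 2, 1), (119, 1, 1, 2, 2),
   (75, 1, 1, 2, 2), (105, 1, 1, 3, 3), (90, 1, 1, 1, 1), (256, 1, 1, 2, 2),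
   (303, 1, 1, 2, 2), (274, 1, 1, 1, 1), (289, 1, 1, 3, 3), (173, 1, 1, 3, 3),
   (158, 1, 1, 1, 1), (187, 1, 1, 2, 2), (137, 1, 1, 2, 2), (222, 1, 1, 1, 1),
   (237, 1, 1, 3, 3), (198, 1, 1, 2, 2), (251, 1, 1, 2, 2), (209, 3, 0, 3, 3),
   (277, 3, 0, 0, 3), (101, 3, 0, 2, 3), (153, 3, 0, 1, 3), (240, 3, 0, 2, 1),
   (308, 3, 0, 0, 1), (132, 3, 0, 1, 1), (184, 3, 0, 3, 1), (226, 3, 0, 1, 2),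
   (294, 3, 0, 0, 2), (118, 3, 0, 3, 2), (170, 3, 0, 2, 2), (239, 3, 3, 2, 1),
   (225, 3, 3, 3, 2), (210, 3, 3, 1, 3), (195, 3, 3, 2, 1), (257, 3, 3, 2, 1),
   (278, 3, 3, 1, 3), (293, 3, 3, 3, 2), (307, 3, 3, 2, 1), (117, 3, 3, 3, 2),
   (131, 3, 3, 2, 1), (78, 3, 3, 2, 1), (102, 3, 3, 1, 3), (154, 3, 3, 1, 3),
   (136, 3, 3, 2, 1), (183, 3, 3, 2, 1), (169, 3, 3, 3, 2), (207, 3, 1, 3, 3),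
   (203, 3, 1, 3, 3), (242, 3, 1, 1, 1), (224, 3, 1, 2, 2), (265, 3, 1, 3, 3),
   (275, 3, 1, 3, 3), (292, 3, 1, 2, 2), (310, 3, 1, 1, 1), (134, 3, 1, 1, 1),
   (116, 3, 1, 2, 2), (99, 3, 1, 3, 3), (86, 3, 1, 3, 3), (168, 3, 1, 2, 2),
   (186, 3, 1, 1, 1), (144, 3, 1, 3, 3), (151, 3, 1, 3, 3), (223, 3, 2, 1, 2),
   (241, 3, 2, 3, 1), (199, 3, 2, 1, 2), (208, 3, 2, 2, 3), (261, 3, 2, 1, 2),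
   (276, 3, 2, 2, 3), (291, 3, 2, 1, 2), (309, 3, 2, 3, 1), (100, 3, 2, 2, 3),
   (82, 3, 2, 1, 2), (133, 3, 2, 3, 1), (115, 3, 2, 1, 2), (185, 3, 2, 3, 1),
   (167, 3, 2, 1, 2), (152, 3, 2, 2, 3), (140, 3, 2, 1, 2), (166, 2, 0, 1, 1),
   (298, 2, 0, 0, 1), (230, 2, 0, 3, 1), (114, 2, 0, 2, 1), (149, 2, 0, 3, 2),
   (281, 2, 0, 0, 2), (213, 2, 0, 2, 2), (97, 2, 0, 1, 2), (180, 2, 0, 2, 3),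
   (312, 2, 0, 0, 3), (244, 2, 0, 1, 3), (128, 2, 0, 3, 3), (163, 2, 1, 1, 1),
   (139, 2, 1, 1, 1), (148, 2, 1, 2, 2), (181, 2, 1, 3, 3), (262, 2, 1, 1, 1),
   (295, 2, 1, 1, 1), (313, 2, 1, 3, 3), (280, 2, 1, 2, 2), (212, 2, 1, 2, 2),
   (245, 2, 1, 3, 3), (227, 2, 1, 1, 1), (200, 2, 1, 1, 1), (129, 2, 1, 3, 3),
   (96, 2, 1, 2, 2), (81, 2, 1, 1, 1), (111, 2, 1, 1, 1), (179, 2, 2, 2, 3),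
   (150, 2, 2, 1, 2), (135, 2, 2, 2, 3), (165, 2, 2, 3, 1), (258, 2, 2, 2, 3),
   (297, 2, 2, 3, 1), (311, 2, 2, 2, 3), (282, 2, 2, 1, 2), (229, 2, 2, 3, 1),
   (196, 2, 2, 2, 3), (214, 2, 2, 1, 2), (243, 2, 2, 2, 3), (98, 2, 2, 1, 2),
   (127, 2, 2, 2, 3), (113, 2, 2, 3, 1), (77, 2, 2, 2, 3), (147, 2, 3, 3, 2),
   (182, 2, 3, 1, 3), (164, 2, 3, 2, 1), (143, 2, 3, 3, 2), (266, 2, 3, 3, 2),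
   (296, 2, 3, 2, 1), (314, 2, 3, 1, 3), (279, 2, 3, 3, 2), (246, 2, 3, 1, 3),
   (211, 2, 3, 3, 2), (204, 2, 3, 3, 2), (228, 2, 3, 2, 1), (112, 2, 3, 2, 1),
   (85, 2, 3, 3, 2), (95, 2, 3, 3, 2), (130, 2, 3, 1, 3), (7, 2, 1, 0, 2),
   (1, 2, 1, 2, 2), (4, 2, 2, 3, 2), (13, 2, 3, 1, 2), (3, 3, 3, 0, 3),
   (2, 3, 3, 1, 3), (14, 3, 1, 2, 3), (8, 3, 2, 3, 3), (11, 1, 2, 0, 1),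
   (0, 1, 2, 3, 1), (9, 1, 3, 1, 1), (6, 1, 1, 2, 1), (43, 2, 2, 0, 1),
   (46, 2, 3, 0, 1), (44, 2, 0, 0, 1), (45, 2, 1, 0, 1), (25, 2, 0, 0, 1),
   (19, 2, 1, 0, 1), (16, 2, 2, 0, 1), (22, 2, 3, 0, 1), (34, 2, 3, 0, 2),
   (33, 2, 1, 0, 2), (32, 2, 0, 0, 2), (31, 2, 2, 0, 2), (69, 2, 1, 0, 3),
   (67, 2, 2, 0, 3), (68, 2, 0, 0, 3), (70, 2, 3, 0, 3), (27, 3, 3, 0, 3),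
   (29, 3, 2, 0, 3), (30, 3, 1, 0, 3), (28, 3, 0, 0, 3), (26, 3, 0, 0, 3),
   (23, 3, 1, 0, 3), (20, 3, 2, 0, 3), (17, 3, 3, 0, 3), (74, 3, 1, 0, 1),
   (71, 3, 3, 0, 1), (73, 3, 2, 0, 1), (72, 3, 0, 0, 1), (49, 3, 2, 0, 2),
   (50, 3, 1, 0, 2), (47, 3, 3, 0, 2), (48, 3, 0, 0, 2), (59, 1, 1, 0, 2),
   (60, 1, 0, 0, 2), (61, 1, 3, 0, 2), (62, 1, 2, 0, 2), (24, 1, 0, 0, 2),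
   (15, 1, 1, 0, 2), (21, 1, 2, 0, 2), (18, 1, 3, 0, 2), (54, 1, 2, 0, 3),
   (52, 1, 0, 0, 3), (51, 1, 1, 0, 3), (53, 1, 3, 0, 3), (41, 1, 3, 0, 1),
   (40, 1, 0, 0, 1), (42, 1, 2, 0, 1), (39, 1, 1, 0, 1)]

end CfsgLib.Known.L34.Cover
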