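import Mathlib
import Cfsg.Agent.Lib.Known.L34.CoverData

/-!
# Finite checks for the cover of `PSL(3, 4)`

Arithmetic of four field elements coded by `0, 1, 2, 3` and the checks on the transversal.
-/

set_option autoImplicit false
set_option maxRecDepth 100000

namespace CfsgLib.Known.L34.Cover

/-- Addition of codes. -/
def x4 (a b : ℕ) : ℕ := (a % 4) ^^^ (b % 4)

/-- Multiplication of codes. -/
def m4 (a b : ℕ) : ℕ :=
  [0, 0, 0, 0, 0, 1, 2, 3, 0, 2, 3, 1, 0, 3, 1, 2].getD (4 * (a % 4) + b % 4) 0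

/-- Entry of a matrix given by its nine entries. -/
def ent (M : List ℕ) (k : ℕ) : ℕ := M.getD k 0

/-- Product entry. -/
def dot (M N : List ℕ) (i j : ℕ) : ℕ :=
  x4 (x4 (m4 (ent M (3 * i)) (ent N j)) (m4 (ent M (3 * i + 1)) (ent N (3 + j))))
    (m4 (ent M (3 * i + 2)) (ent N (6 + j)))

/-- Matrix product. -/
def mmul (M N : List ℕ) : List ℕ :=
  [dot M N 0 0, dot M N 0 1, dot M N 0 2, dot M N 1 0, dot M N 1 1, dot M N 1 2,
   dot M N 2 0, dot M N 2 1, dot M N 2 2]

/-- Determinant in characteristic two. -/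
def det4 (M : List ℕ) : ℕ :=
  let p := fun a b c => m4 (m4 (ent M a) (ent M b)) (ent M c)
  x4 (x4 (x4 (x4 (x4 (p 0 4 8) (p 0 5 7)) (p 1 3 8)) (p 1 5 6)) (p 2 3 7)) (p 2 4 6)

def scal (r : ℕ) (M : List ℕ) : List ℕ := [0, 1, 2, 3, 4, 5, 6, 7, 8].map fun k => m4 r (ent M k)

/-- The unitriangular matrix with coordinates `(a, b, t)`. -/
def elM (a b t : ℕ) : List ℕ := [1, a, x4 t (m4 a b), 0, 1, b, 0, 0, 1]

/-- Upper triangular with equal diagonal. -/
def inK (M : List ℕ) : Bool :=
  ent M 3 % 4 == 0 && ent M 6 % 4 == 0 && ent M 7 % 4 == 0 &&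
    ent M 0 % 4 == ent M 4 % 4 && ent M 0 % 4 == ent M 8 % 4

def idM : List ℕ := [1, 0, 0, 0, 1, 0, 0, 0, 1]

/-- No two members of the list differ by an element of the subgroup. -/
def apart : List (List ℕ × List ℕ) → Bool
  | [] => true
  | r :: l => l.all (fun s => !inK (mmul r.2 s.1)) && apart l

def repI (i : ℕ) : List ℕ := (repList.getD i ([], [])).1

def invI (i : ℕ) : List ℕ := (repList.getD i ([], [])).2

/-- The four elements whose action is recorded. -/
def xs : List (List ℕ) := [elM 1 1 (m4 1 1), elM 2 2 (m4 2 2), elM 1 2 (m4 1 2), elM 2 3 (m4 2 3)]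

def acts : List (List (ℕ × ℕ × ℕ × ℕ × ℕ)) := [act0, act1, act2, act3]

def actAt (n i : ℕ) : ℕ × ℕ × ℕ × ℕ × ℕ := (acts.getD n []).getD i (0, 0, 0, 0, 0)

/-- The image of a coset. -/
def tgt (n i : ℕ) : ℕ := (actAt n i).1

/-- The unitriangular factor. -/
def tri (n i : ℕ) : ℕ × ℕ × ℕ := (actAt n i).2.2

def actOK (n : ℕ) (x : List ℕ) : Bool :=
  (repList.zip (acts.getD n [])).all fun p =>
    let e := p.2
    decide (e.1 < 315) && decide (e.2.1 % 4 ≠ 0) &&
      decide (mmul x p.1.1 = mmul (repI e.1) (scal e.2.1 (elM e.2.2.1 e.2.2.2.1 e.2.2.2.2)))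

/-- The values of the root of the cocycle. -/
def hM (n : ℕ) : ZMod 4 × ZMod 4 := [(0, 0), (1, 0), (0, 1), (3, 3)].getD (n % 4) (0, 0)

/-- The cocycle on coordinates. -/
def fM (p q : ℕ × ℕ × ℕ) : ZMod 4 × ZMod 4 :=
  let s := m4 q.1 p.2.2
  let u := hM (m4 s s)
  let v := hM (m4 q.2.1 (x4 (m4 q.1 p.2.1) p.2.2))
  (u + u) + (v + v) - hM (m4 q.1 (m4 p.2.1 p.2.1))

/-- The term of a witness sum. -/
def term (n m i : ℕ) : ZMod 4 × ZMod 4 :=
  fM (tri n (tgt m i)) (tri m i) - fM (tri m (tgt n i)) (tri n i)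

theorem repList_length : repList.length = 315 := by decide +kernel

theorem rep_ok : (repList.all fun r => decide (det4 r.1 = 1) && decide (mmul r.2 r.1 = idM)) = true := by
  decide +kernel

theorem rep_apart : apart repList = true := by decide +kernel

theorem acts_length : (acts.all fun l => decide (l.length = 315)) = true := by decide +kernel

theorem acts_ok : (List.range 4).all (fun n => actOK n (xs.getD n [])) = true := by decide +kernel

theorem witness₀ : ((List.range 315).map (term 0 1)).sum = (3, 2) := by decide +kernel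

theorem witness₁ : ((List.range 315).map (term 2 3)).sum = (3, 1) := by decide +kernel

end CfsgLib.Known.L34.Cover
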