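import Mathlib
import Cfsg.Agent.Lib.Known.L34.CoverModel
import Cfsg.Agent.Lib.Schur.TransferCocycle

/-!
# A cocycle on the unitriangular group over four elements

Codes of field elements, the subgroup of upper triangular matrices with equal diagonal and a cocycle on
unitriangular coordinates with values in two copies of the integers modulo four.
-/

set_option autoImplicit false

namespace CfsgLib.Known.L34.Cover

open Matrix
open scoped MatrixGroups

universe u

variable {F : Type u} [Field F]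

/-- The field data. -/
structure Four (F : Type u) [Field F] where
  two : (2 : F) = 0
  c : F
  c_sq : c * c = c + 1
  cases : ∀ x : F, x = 0 ∨ x = 1 ∨ x = c ∨ x = c + 1

namespace Four

variable (E : Four F)

/-- Decoding. -/
def φ (n : ℕ) : F := [0, 1, E.c, E.c + 1].getD (n % 4) 0

theorem φ_zero : E.φ 0 = 0 := rfl
theorem φ_one : E.φ 1 = 1 := rfl

theorem φ_x4 (a b : ℕ) : E.φ (x4 a b) = E.φ a + E.φ b := by
  have key : ∀ i j : Fin 4, E.φ (x4 i.val j.val) = E.φ i.val + E.φ j.val := by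
    intro i j
    fin_cases i <;> fin_cases j <;> simp [φ, x4]
    all_goals first
      | ring1
      | linear_combination (-1 : F) * E.two
      | linear_combination E.two
      | linear_combination E.c * E.two
      | linear_combination (E.c + 1) * E.two
      | linear_combination (-E.c) * E.two
      | linear_combination (-E.c - 1) * E.two
  have := key ⟨a % 4, Nat.mod_lt _ (by norm_num)⟩ ⟨b % 4, Nat.mod_lt _ (by norm_num)⟩
  simpa [φ, x4, Nat.mod_mod] using this

theorem φ_m4 (a b : ℕ) : E.φ (m4 a b) = E.φ a * E.φ b := by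
  have key : ∀ i j : Fin 4, E.φ (m4 i.val j.val) = E.φ i.val * E.φ j.val := by
    intro i j
    fin_cases i <;> fin_cases j <;> simp [φ, m4]
    all_goals first
      | ring1
      | linear_combination -E.c_sq
      | linear_combination -E.c_sq - E.c * E.two
      | linear_combination -E.c_sq - (E.c + 1) * E.two
      | linear_combination -E.c_sq - E.two
      | linear_combination E.c_sq + E.two
  have := key ⟨a % 4, Nat.mod_lt _ (by norm_num)⟩ ⟨b % 4, Nat.mod_lt _ (by norm_num)⟩
  simpa [φ, m4, Nat.mod_mod] using this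

theorem c_ne : E.c ≠ 0 ∧ E.c ≠ 1 := by
  constructor <;> intro h <;> have := E.c_sq <;> rw [h] at this
  · simp at this
  · simp at this

theorem φ_inj {a b : ℕ} (h : E.φ a = E.φ b) : a % 4 = b % 4 := by
  obtain ⟨h0, h1⟩ := E.c_ne
  have h2 : E.c + 1 ≠ 0 := fun e => h1 (by linear_combination e - E.two)
  have key : ∀ i j : Fin 4, E.φ i.val = E.φ j.val → i = j := by
    intro i j
    fin_cases i <;> fin_cases j <;> simp [φ, h0, h1, h2, h0.symm, h1.symm, h2.symm, eq_comm]
  have h' : E.φ (a % 4) = E.φ (b % 4) := by simpa [φ, Nat.mod_mod] using h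
  exact congrArg Fin.val (key ⟨a % 4, Nat.mod_lt _ (by norm_num)⟩ ⟨b % 4, Nat.mod_lt _ (by norm_num)⟩ h')

theorem φ_surj (x : F) : ∃ n : ℕ, n < 4 ∧ E.φ n = x := by
  rcases E.cases x with h | h | h | h
  exacts [⟨0, by norm_num, h.symm⟩, ⟨1, by norm_num, h.symm⟩, ⟨2, by norm_num, h.symm⟩, ⟨3, by norm_num, h.symm⟩]

/-- Decoding of a matrix. -/
def toMat (M : List ℕ) : Matrix (Fin 3) (Fin 3) F :=
  !![E.φ (ent M 0), E.φ (ent M 1), E.φ (ent M 2); E.φ (ent M 3), E.φ (ent M 4), E.φ (ent M 5);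
     E.φ (ent M 6), E.φ (ent M 7), E.φ (ent M 8)]

theorem toMat_mmul (M N : List ℕ) : E.toMat (mmul M N) = E.toMat M * E.toMat N := by
  ext i j
  fin_cases i <;> fin_cases j <;>
    simp [toMat, mmul, dot, ent, Matrix.mul_apply, Fin.sum_univ_three, φ_x4, φ_m4]

theorem det_toMat (M : List ℕ) : (E.toMat M).det = E.φ (det4 M) := by
  rw [Matrix.det_fin_three]
  simp [toMat, det4, φ_x4, φ_m4]
  linear_combination (-(E.φ (ent M 0) * E.φ (ent M 5) * E.φ (ent M 7)) - E.φ (ent M 1) * E.φ (ent M 3) * E.φ (ent M 8)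
    - E.φ (ent M 2) * E.φ (ent M 4) * E.φ (ent M 6)) * E.two

theorem toMat_idM : E.toMat idM = 1 := by
  ext i j
  fin_cases i <;> fin_cases j <;> simp [toMat, idM, ent, φ]

theorem toMat_scal (r : ℕ) (M : List ℕ) : E.toMat (scal r M) = E.φ r • E.toMat M := by
  ext i j
  fin_cases i <;> fin_cases j <;> simp [toMat, scal, ent, φ_m4]

end Four

/-! ### Coordinates -/

/-- Unitriangular coordinates. -/
@[ext]
structure Tri (F : Type u) [Field F] where
  a : F
  b : F
  t : F

namespace Tri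

instance : Mul (Tri F) := ⟨fun p q => ⟨p.a + q.a, p.b + q.b, p.t + q.t + q.a * p.b⟩⟩
instance : One (Tri F) := ⟨⟨0, 0, 0⟩⟩
instance : Inv (Tri F) := ⟨fun p => ⟨-p.a, -p.b, -p.t + p.a * p.b⟩⟩

theorem mul_def (p q : Tri F) : p * q = ⟨p.a + q.a, p.b + q.b, p.t + q.t + q.a * p.b⟩ := rfl
theorem one_def : (1 : Tri F) = ⟨0, 0, 0⟩ := rfl
theorem inv_def (p : Tri F) : p⁻¹ = ⟨-p.a, -p.b, -p.t + p.a * p.b⟩ := rfl

instance : Group (Tri F) :=
  Group.ofLeftAxioms (fun p q r => by simp only [mul_def]; ext <;> ring)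
    (fun p => by simp [mul_def, one_def]) (fun p => by simp only [mul_def, inv_def, one_def]; ext <;> ring)

end Tri

/-- Upper triangular matrices with equal diagonal. -/
def inKF (g : Matrix (Fin 3) (Fin 3) F) : Prop :=
  g 1 0 = 0 ∧ g 2 0 = 0 ∧ g 2 1 = 0 ∧ g 0 0 = g 1 1 ∧ g 0 0 = g 2 2

theorem inKF_mul {g h : Matrix (Fin 3) (Fin 3) F} (hg : inKF g) (hh : inKF h) : inKF (g * h) := by
  obtain ⟨a1, a2, a3, a4, a5⟩ := hg
  obtain ⟨b1, b2, b3, b4, b5⟩ := hh
  refine ⟨?_, ?_, ?_, ?_, ?_⟩ <;>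
    simp [Matrix.mul_apply, Fin.sum_univ_three, a1, a2, a3, ← a4, ← a5, b1, b2, b3, ← b4, ← b5]

variable [Fintype F]

variable (F) in
/-- The subgroup of upper triangular matrices with equal diagonal. -/
def KK : Subgroup SL(3, F) where
  carrier := {g | inKF (g : Matrix (Fin 3) (Fin 3) F)}
  one_mem' := by simp [inKF]
  mul_mem' {g h} hg hh := by
    simp only [Set.mem_setOf_eq, Matrix.SpecialLinearGroup.coe_mul]; exact inKF_mul hg hh
  inv_mem' {g} hg := by
    classical
    have h1 : ∀ n : ℕ, inKF ((g ^ n : SL(3, F)) : Matrix (Fin 3) (Fin 3) F) := by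
      intro n
      induction n with
      | zero => simp [inKF]
      | succ n ih => rw [pow_succ, Matrix.SpecialLinearGroup.coe_mul]; exact inKF_mul ih hg
    have h2 : g⁻¹ = g ^ (orderOf g - 1) := by
      refine inv_eq_of_mul_eq_one_right ?_
      rw [← pow_succ', Nat.sub_add_cancel (orderOf_pos g), pow_orderOf_eq_one]
    rw [Set.mem_setOf_eq, h2]
    exact h1 _

theorem mem_KK {g : SL(3, F)} : g ∈ KK F ↔ inKF (g : Matrix (Fin 3) (Fin 3) F) := Iff.rfl

theorem diag_ne {g : SL(3, F)} (hg : g ∈ KK F) : (g : Matrix (Fin 3) (Fin 3) F) 0 0 ≠ 0 := by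
  obtain ⟨a1, a2, a3, a4, a5⟩ := hg
  intro h
  have := g.2
  rw [Matrix.det_fin_three] at this
  simp [a1, a2, ← a4, h, ← a5] at this

/-- Coordinates of an element of the subgroup. -/
def coords (h2 : (2 : F) = 0) : KK F →* Tri F where
  toFun g :=
    let M : Matrix (Fin 3) (Fin 3) F := (g : SL(3, F))
    ⟨M 0 1 / M 0 0, M 1 2 / M 0 0, M 0 2 / M 0 0 - M 0 1 / M 0 0 * (M 1 2 / M 0 0)⟩
  map_one' := by simp [Tri.one_def]
  map_mul' g h := by
    obtain ⟨a1, a2, a3, a4, a5⟩ := (g.2 : inKF ((g : SL(3, F)) : Matrix (Fin 3) (Fin 3) F))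
    obtain ⟨b1, b2, b3, b4, b5⟩ := (h.2 : inKF ((h : SL(3, F)) : Matrix (Fin 3) (Fin 3) F))
    have hg := diag_ne g.2
    have hh := diag_ne h.2
    simp only [Subgroup.coe_mul, Matrix.SpecialLinearGroup.coe_mul, Matrix.mul_apply, Fin.sum_univ_three,
      Tri.mul_def, a1, a2, a3, ← a4, ← a5, b1, b2, b3, ← b4, ← b5, zero_mul, mul_zero, add_zero, zero_add]
    ext
    · field_simp; ring
    · field_simp; ring
    · field_simp
      linear_combination (-((g : SL(3, F)) : Matrix (Fin 3) (Fin 3) F) 1 2 *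
        ((h : SL(3, F)) : Matrix (Fin 3) (Fin 3) F) 0 1 * ((g : SL(3, F)) : Matrix (Fin 3) (Fin 3) F) 0 0 *
        ((h : SL(3, F)) : Matrix (Fin 3) (Fin 3) F) 0 0) * h2

/-! ### The cocycle -/

open Classical in
/-- The code of a field element. -/
noncomputable def code (E : Four F) (x : F) : ℕ := if x = 0 then 0 else if x = 1 then 1 else if x = E.c then 2 else 3

omit [Fintype F] in
theorem code_φ (E : Four F) (n : ℕ) : code E (E.φ n) = n % 4 := by
  classical
  have h : E.φ n = E.φ (n % 4) := by simp [Four.φ, Nat.mod_mod]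
  rw [h]
  have hlt : n % 4 < 4 := Nat.mod_lt _ (by norm_num)
  obtain ⟨h0, h1⟩ := E.c_ne
  have h2 : E.c + 1 ≠ 0 := fun e => h1 (by linear_combination e - E.two)
  interval_cases (n % 4) <;> simp [code, Four.φ, h0, h1, h2]

/-- The root of the cocycle. -/
noncomputable def hF (E : Four F) (x : F) : ZMod 4 × ZMod 4 := hM (code E x)

omit [Fintype F] in
theorem hF_φ (E : Four F) (n : ℕ) : hF E (E.φ n) = hM n := by
  rw [hF, code_φ]; simp [hM, Nat.mod_mod]

/-- The cocycle on coordinates. -/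
noncomputable def fF (E : Four F) (p q : Tri F) : ZMod 4 × ZMod 4 :=
  hF E (q.a * p.t * (q.a * p.t)) + hF E (q.a * p.t * (q.a * p.t))
    + (hF E (q.b * (q.a * p.b + p.t)) + hF E (q.b * (q.a * p.b + p.t))) - hF E (q.a * (p.b * p.b))

omit [Fintype F] in
theorem fF_φ (E : Four F) (a b t a' b' t' : ℕ) :
    fF E ⟨E.φ a, E.φ b, E.φ t⟩ ⟨E.φ a', E.φ b', E.φ t'⟩ = fM (a, b, t) (a', b', t') := by
  simp only [fF, fM, ← E.φ_m4, ← E.φ_x4, hF_φ]

omit [Fintype F] in
/-- The laws of the root of the cocycle. -/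
theorem hF_laws (E : Four F) (x y : F) :
    hF E 0 = 0 ∧ hF E (x + y) = hF E x + hF E y + (hF E (x * y * (x * y)) + hF E (x * y * (x * y))) ∧
      hF E (x + y) + hF E (x + y) = hF E x + hF E x + (hF E y + hF E y) := by
  obtain ⟨i, hi, rfl⟩ := E.φ_surj x
  obtain ⟨j, hj, rfl⟩ := E.φ_surj y
  rw [show (0 : F) = E.φ 0 from rfl]
  simp only [← E.φ_m4, ← E.φ_x4, hF_φ]
  interval_cases i <;> interval_cases j <;> decide

omit [Fintype F] in
theorem four_eq_zero : (4 : ZMod 4 × ZMod 4) = 0 := by decide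

/-- The cocycle. -/
noncomputable def cocycle (E : Four F) : CfsgLib.Schur.TransferCocycle.Cocycle (Tri F) (ZMod 4 × ZMod 4) where
  f := fF E
  one_left p := by simp [fF, Tri.one_def, (hF_laws E 0 0).1]
  one_right p := by simp [fF, Tri.one_def, (hF_laws E 0 0).1]
  cocycle p q r := by
    obtain ⟨a, b, t⟩ := p
    obtain ⟨a', b', t'⟩ := q
    obtain ⟨A, B, T⟩ := r
    have hD : ∀ x y, hF E (x + y) = hF E x + hF E y + (hF E (x * y * (x * y)) + hF E (x * y * (x * y))) :=
      fun x y => (hF_laws E x y).2.1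
    have hP : ∀ x y, hF E (x + y) + hF E (x + y) = hF E x + hF E x + (hF E y + hF E y) :=
      fun x y => (hF_laws E x y).2.2
    have hb4 : ∀ x : F, x * x * (x * x) = x := by
      intro x
      obtain ⟨i, hi, rfl⟩ := E.φ_surj x
      simp only [← E.φ_m4]
      interval_cases i <;> rfl
    simp only [fF, Tri.mul_def]
    -- squares of sums
    have sq : ∀ x y : F, (x + y) * (x + y) = x * x + y * y := fun x y => by linear_combination (x * y) * E.two
    have e1 : (A * (t + t' + a' * b)) * (A * (t + t' + a' * b)) =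
        A * t * (A * t) + A * t' * (A * t') + A * (a' * b) * (A * (a' * b)) := by
      rw [mul_add A, mul_add A, sq, sq]
    have e2 : (a' + A) * t * ((a' + A) * t) = a' * t * (a' * t) + A * t * (A * t) := by rw [add_mul, sq]
    have e3 : B * (A * (b + b') + (t + t' + a' * b)) =
        B * (A * b) + B * (A * b') + (B * t + B * t' + B * (a' * b)) := by ring
    have e4 : (b' + B) * ((a' + A) * b + t) =
        b' * (a' * b + t) + b' * (A * b) + (B * (A * b) + B * (a' * b) + B * t) := by ring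
    have e5 : B * (A * b' + t') = B * (A * b') + B * t' := by ring
    have e6 : A * ((b + b') * (b + b')) = A * (b * b) + A * (b' * b') := by rw [sq, mul_add]
    have e7 : (a' + A) * (b * b) = a' * (b * b) + A * (b * b) := add_mul _ _ _
    rw [e1, e2, e3, e4, e5, e6, e7]
    simp only [hP]
    rw [hD (A * (b * b)), hD (a' * (b * b))]
    have e8' : A * (b * b) * (A * (b' * b')) * (A * (b * b) * (A * (b' * b'))) = b' * (A * b) := by
      calc _ = A * A * (A * A) * (b * b * (b * b)) * (b' * b' * (b' * b')) := by ring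
        _ = b' * (A * b) := by rw [hb4, hb4, hb4]; ring
    have e9' : a' * (b * b) * (A * (b * b)) * (a' * (b * b) * (A * (b * b))) = A * (a' * b) * (A * (a' * b)) := by
      calc _ = a' * a' * (A * A) * (b * b * (b * b)) * (b * b * (b * b)) := by ring
        _ = A * (a' * b) * (A * (a' * b)) := by rw [hb4]; ring
    rw [e8', e9']
    linear_combination (hF E (A * (a' * b) * (A * (a' * b))) - hF E (b' * (A * b))) * four_eq_zero

end CfsgLib.Known.L34.Cover
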