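import Mathlib
import Cfsg.Agent.Lib.Classical.SLGroup
import Cfsg.Agent.Lib.Known.L34.CoverField
import Cfsg.Agent.Lib.Known.L34.Upper
import Cfsg.Agent.Lib.Schur.Multiplier

/-!
# The Schur multiplier of `PSL(3, 4)`

The transferred cocycle gives a stem extension of `PSL(3, 4)` with kernel of order 48.
-/

set_option autoImplicit false

namespace CfsgLib.Known.L34.Cover

open scoped MatrixGroups commutatorElement
open CfsgLib.Schur.TransferCocycle (Ext factor transfer)

universe u

variable {F : Type u} [Field F]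

/-- A decoded matrix of determinant one. -/
def mkSL (E : Four F) (M : List ℕ) (h : det4 M = 1) : SL(3, F) :=
  ⟨E.toMat M, by rw [E.det_toMat, h]; rfl⟩

theorem rep_mem {i : ℕ} (hi : i < 315) : repList.getD i ([], []) ∈ repList := by
  rw [List.getD_eq_getElem _ _ (by rw [repList_length]; exact hi)]
  exact List.getElem_mem _

theorem det_repI {i : ℕ} (hi : i < 315) : det4 (repI i) = 1 := by
  have := List.all_eq_true.1 rep_ok _ (rep_mem hi)
  simp only [Bool.and_eq_true, decide_eq_true_eq] at this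
  exact this.1

theorem inv_repI {i : ℕ} (hi : i < 315) : mmul (invI i) (repI i) = idM := by
  have := List.all_eq_true.1 rep_ok _ (rep_mem hi)
  simp only [Bool.and_eq_true, decide_eq_true_eq] at this
  exact this.2

theorem apart_sound : ∀ l : List (List ℕ × List ℕ), apart l = true →
    l.Pairwise (fun r s => inK (mmul r.2 s.1) = false)
  | [], _ => List.Pairwise.nil
  | r :: l, h => by
    simp only [apart, Bool.and_eq_true, List.all_eq_true, Bool.not_eq_true'] at h
    exact List.Pairwise.cons (fun s hs => h.1 s hs) (apart_sound l h.2)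

theorem inK_of_inKF (E : Four F) {M : List ℕ} (h : inKF (E.toMat M)) : inK M = true := by
  obtain ⟨h1, h2, h3, h4, h5⟩ := h
  simp [Four.toMat] at h1 h2 h3 h4 h5
  have k1 : ent M 3 % 4 = 0 := E.φ_inj (h1.trans E.φ_zero.symm)
  have k2 : ent M 6 % 4 = 0 := E.φ_inj (h2.trans E.φ_zero.symm)
  have k3 : ent M 7 % 4 = 0 := E.φ_inj (h3.trans E.φ_zero.symm)
  simp [inK, k1, k2, k3, E.φ_inj h4, E.φ_inj h5]
  exact (E.φ_inj h4).symm.trans (E.φ_inj h5)

theorem inv_mkSL (E : Four F) {M N : List ℕ} (h : det4 M = 1) (hN : mmul N M = idM) :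
    (((mkSL E M h)⁻¹ : SL(3, F)) : Matrix (Fin 3) (Fin 3) F) = E.toMat N := by
  have h1 : E.toMat N * (mkSL E M h : Matrix (Fin 3) (Fin 3) F) = 1 := by
    show E.toMat N * E.toMat M = 1
    rw [← E.toMat_mmul, hN, E.toMat_idM]
  calc (((mkSL E M h)⁻¹ : SL(3, F)) : Matrix (Fin 3) (Fin 3) F)
      = 1 * (((mkSL E M h)⁻¹ : SL(3, F)) : Matrix (Fin 3) (Fin 3) F) := (one_mul _).symm
    _ = E.toMat N := by
      rw [← h1, mul_assoc, ← Matrix.SpecialLinearGroup.coe_mul, mul_inv_cancel, Matrix.SpecialLinearGroup.coe_one,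
        mul_one]

/-- The transversal. -/
def rr (E : Four F) (i : Fin 315) : SL(3, F) := mkSL E (repI i) (det_repI i.2)

theorem xs_det : ∀ n : Fin 4, det4 (xs.getD n.val []) = 1 := by decide +kernel

/-- The four recorded elements. -/
def xx (E : Four F) (n : Fin 4) : SL(3, F) := mkSL E (xs.getD n.val []) (xs_det n)

variable [Fintype F]

theorem rr_injective (E : Four F) :
    Function.Injective (fun i : Fin 315 => (QuotientGroup.mk (rr E i) : SL(3, F) ⧸ KK F)) := by
  have key : ∀ i j : Fin 315, i.val < j.val → (rr E i)⁻¹ * rr E j ∉ KK F := by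
    intro i j hij h
    have hp := List.pairwise_iff_getElem.1 (apart_sound _ rep_apart) i.val j.val
      (by rw [repList_length]; exact i.2) (by rw [repList_length]; exact j.2) hij
    rw [← List.getD_eq_getElem _ ([], []), ← List.getD_eq_getElem _ ([], [])] at hp
    rw [mem_KK, Matrix.SpecialLinearGroup.coe_mul, rr, rr, inv_mkSL E _ (inv_repI i.2)] at h
    have h' : inKF (E.toMat (mmul (invI i) (repI j))) := by rw [E.toMat_mmul]; exact h
    rw [show mmul (invI i) (repI j) = mmul (repList.getD i.val ([], [])).2 (repList.getD j.val ([], [])).1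
      from rfl] at h'
    rw [inK_of_inKF E h'] at hp
    exact Bool.noConfusion hp
  intro i j h
  have h' := QuotientGroup.eq.1 h
  rcases lt_trichotomy i.val j.val with hlt | heq | hgt
  · exact absurd h' (key i j hlt)
  · exact Fin.ext heq
  · refine absurd ?_ (key j i hgt)
    simpa using (KK F).inv_mem h'

theorem rr_bijective (E : Four F) (hF : Fintype.card F = 4) :
    Function.Bijective (fun i : Fin 315 => (QuotientGroup.mk (rr E i) : SL(3, F) ⧸ KK F)) := by
  classical
  refine Function.Injective.bijective_of_nat_card_le (rr_injective E) ?_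
  rw [Nat.card_eq_fintype_card (α := Fin 315), Fintype.card_fin, ← Subgroup.index_eq_card]
  have hSL : Nat.card SL(3, F) = 3 * 20160 := by
    have h3 := CfsgLib.Classical.card_SL_eq_gcd_mul_card_PSL (F := F) (ι := Fin 3)
    rw [hF, Fintype.card_fin, show Nat.gcd 3 (4 - 1) = 3 from rfl, card_PSL hF] at h3
    exact h3
  have hcube : ∀ r : {r : F // r ≠ 0}, r.1 * r.1 * r.1 = 1 := by
    rintro ⟨r, hr⟩
    rcases E.cases r with rfl | rfl | rfl | rfl
    · exact absurd rfl hr
    · simp
    · show E.c * E.c * E.c = 1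
      linear_combination (E.c + 1) * E.c_sq + E.c * E.two
    · show (E.c + 1) * (E.c + 1) * (E.c + 1) = 1
      linear_combination (E.c + 4) * E.c_sq + (4 * E.c + 2) * E.two
  have hcard : 192 ≤ Nat.card (KK F) := by
    let g : {r : F // r ≠ 0} × F × F × F → KK F := fun p =>
      ⟨⟨!![p.1.1, p.2.1, p.2.2.2; 0, p.1.1, p.2.2.1; 0, 0, p.1.1], by simp [Matrix.det_fin_three, hcube p.1]⟩, by
        show inKF (!![p.1.1, p.2.1, p.2.2.2; 0, p.1.1, p.2.2.1; 0, 0, p.1.1] : Matrix (Fin 3) (Fin 3) F)
        simp [inKF]⟩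
    have hg : Function.Injective g := by
      intro p q h
      have h' := congrArg (fun k : KK F => ((k : SL(3, F)) : Matrix (Fin 3) (Fin 3) F)) h
      have e0 := congrFun (congrFun h' 0) 0
      have e1 := congrFun (congrFun h' 0) 1
      have e2 := congrFun (congrFun h' 1) 2
      have e3 := congrFun (congrFun h' 0) 2
      simp [g] at e0 e1 e2 e3
      exact Prod.ext (Subtype.ext e0) (Prod.ext e1 (Prod.ext e2 e3))
    have h3 : Nat.card {r : F // r ≠ 0} = 3 := by
      rw [Nat.card_eq_fintype_card, Fintype.card_subtype_compl, Fintype.card_subtype_eq, hF]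
    have := Nat.card_le_card_of_injective g hg
    rw [Nat.card_prod, Nat.card_prod, Nat.card_prod, h3, Nat.card_eq_fintype_card (α := F), hF] at this
    exact this
  have := (KK F).card_mul_index
  rw [hSL] at this
  by_contra h
  have : 192 * 316 ≤ Nat.card (KK F) * (KK F).index := Nat.mul_le_mul hcard (by omega)
  omega

omit [Fintype F] in
theorem act_spec (n : Fin 4) (i : Fin 315) :
    tgt n i < 315 ∧ (actAt n i).2.1 % 4 ≠ 0 ∧ mmul (xs.getD n.val []) (repI i) =
      mmul (repI (tgt n i)) (scal (actAt n i).2.1 (elM (tri n i).1 (tri n i).2.1 (tri n i).2.2)) := by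
  have h := List.all_eq_true.1 acts_ok n.val (List.mem_range.2 n.2)
  have hn : n.val < acts.length := n.2
  have hl : (acts.getD n.val []).length = 315 := by
    rw [List.getD_eq_getElem _ _ hn]
    simpa using List.all_eq_true.1 acts_length _ (List.getElem_mem hn)
  rw [actOK, List.all_eq_true] at h
  have hmem : (repList.getD i.val ([], []), actAt n i) ∈ repList.zip (acts.getD n.val []) := by
    rw [actAt, List.getD_eq_getElem _ _ (by rw [repList_length]; exact i.2 : i.val < repList.length),
      List.getD_eq_getElem _ _ (by rw [hl]; exact i.2 : i.val < (acts.getD n.val []).length), ← List.getElem_zip]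
    · exact List.getElem_mem _
    · rw [List.length_zip, repList_length, hl]; simp
  have h' := h _ hmem
  simp only [Bool.and_eq_true, decide_eq_true_eq] at h'
  exact ⟨h'.1.1, h'.1.2, h'.2⟩

section Transfer

variable (E : Four F) (hF : Fintype.card F = 4)

/-- The cosets. -/
noncomputable def cosetEquiv : Fin 315 ≃ SL(3, F) ⧸ KK F := Equiv.ofBijective _ (rr_bijective E hF)

/-- The section. -/
noncomputable def sect (q : SL(3, F) ⧸ KK F) : SL(3, F) := rr E ((cosetEquiv E hF).symm q)

theorem sect_spec (q : SL(3, F) ⧸ KK F) : (QuotientGroup.mk (sect E hF q) : SL(3, F) ⧸ KK F) = q :=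
  (cosetEquiv E hF).apply_symm_apply q

noncomputable instance : Fintype (SL(3, F) ⧸ KK F) := Fintype.ofFinite _

theorem act_coset (n : Fin 4) (i : Fin 315) :
    xx E n • cosetEquiv E hF i = cosetEquiv E hF ⟨tgt n i, (act_spec n i).1⟩ ∧
      factor (coords E.two) (sect E hF) (sect_spec E hF) (xx E n) (cosetEquiv E hF i) =
        ⟨E.φ (tri n i).1, E.φ (tri n i).2.1, E.φ (tri n i).2.2⟩ := by
  obtain ⟨hlt, hs, heq⟩ := act_spec n i
  set j : Fin 315 := ⟨tgt n i, hlt⟩ with hj
  set s := (actAt n i).2.1 with hs'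
  set k := (rr E j)⁻¹ * xx E n * rr E i with hk
  have hkM : (k : Matrix (Fin 3) (Fin 3) F) =
      E.φ s • E.toMat (elM (tri n i).1 (tri n i).2.1 (tri n i).2.2) := by
    rw [← E.toMat_scal, hk, mul_assoc, Matrix.SpecialLinearGroup.coe_mul, Matrix.SpecialLinearGroup.coe_mul]
    show _ * (E.toMat (xs.getD n.val []) * E.toMat (repI i)) = _
    rw [← E.toMat_mmul, heq, E.toMat_mmul, rr, inv_mkSL E _ (inv_repI hlt), ← mul_assoc, ← E.toMat_mmul,
      inv_repI hlt, E.toMat_idM, one_mul]
  have hkK : k ∈ KK F := by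
    rw [mem_KK, hkM]
    simp [inKF, Four.toMat, elM, ent, E.φ_zero, E.φ_one]
  have e1 : xx E n • cosetEquiv E hF i = cosetEquiv E hF j := by
    show (QuotientGroup.mk (xx E n * rr E i) : SL(3, F) ⧸ KK F) = QuotientGroup.mk (rr E j)
    rw [QuotientGroup.eq, show (xx E n * rr E i)⁻¹ * rr E j = k⁻¹ by rw [hk]; group]
    exact (KK F).inv_mem hkK
  refine ⟨e1, ?_⟩
  have e2 : (sect E hF (xx E n • cosetEquiv E hF i))⁻¹ * xx E n * sect E hF (cosetEquiv E hF i) = k := by
    rw [e1, sect, sect, Equiv.symm_apply_apply, Equiv.symm_apply_apply]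
  show coords E.two ⟨_, _⟩ = _
  rw [show (⟨_, CfsgLib.Schur.TransferCocycle.factor_mem (sect E hF) (sect_spec E hF) (xx E n) (cosetEquiv E hF i)⟩ :
    KK F) = ⟨k, hkK⟩ from Subtype.ext e2]
  have hφs : E.φ s ≠ 0 := fun h => hs (E.φ_inj (h.trans E.φ_zero.symm))
  simp only [coords, MonoidHom.coe_mk, OneHom.coe_mk, hkM]
  ext <;> simp [Four.toMat, elM, ent, E.φ_one, E.φ_x4, E.φ_m4, hφs]

/-- The transferred cocycle on `SL(3, 4)`. -/
noncomputable def bigCocycle : CfsgLib.Schur.TransferCocycle.Cocycle SL(3, F) (ZMod 4 × ZMod 4) :=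
  transfer (coords E.two) (sect E hF) (sect_spec E hF) (cocycle E)

theorem value (n m : Fin 4) : (bigCocycle E hF).f (xx E n) (xx E m) - (bigCocycle E hF).f (xx E m) (xx E n) =
    ((List.range 315).map (term n m)).sum := by
  have h : ∀ a b : Fin 4, (bigCocycle E hF).f (xx E a) (xx E b) =
      ∑ i : Fin 315, fM (tri a (tgt b i)) (tri b i) := by
    intro a b
    show ∑ q, fF E _ _ = _
    rw [← Equiv.sum_comp (cosetEquiv E hF)]
    refine Finset.sum_congr rfl fun i _ => ?_
    rw [(act_coset E hF b i).1, (act_coset E hF b i).2, (act_coset E hF a _).2, fF_φ]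
  rw [h, h, ← Finset.sum_sub_distrib]
  exact (Fin.sum_univ_eq_sum_range (fun i => term n m i) 315).trans rfl

theorem center_le (z : SL(3, F)) (hz : z ∈ Subgroup.center SL(3, F)) :
    ∃ h : z ∈ KK F, coords E.two ⟨z, h⟩ = 1 := by
  obtain ⟨r, -, hr⟩ := Matrix.SpecialLinearGroup.mem_center_iff.mp hz
  refine ⟨by rw [mem_KK, ← hr]; simp [inKF], ?_⟩
  simp only [coords, MonoidHom.coe_mk, OneHom.coe_mk, ← hr]
  ext <;> simp [Tri.one_def]

theorem big_center {z : SL(3, F)} (hz : z ∈ Subgroup.center SL(3, F)) (g : SL(3, F)) :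
    (bigCocycle E hF).f z g = 0 ∧ (bigCocycle E hF).f g z = 0 := by
  obtain ⟨h, h'⟩ := center_le E z hz
  exact CfsgLib.Schur.TransferCocycle.transfer_center _ _ _ _
    (fun g => Subgroup.mem_center_iff.1 hz g) h h' g

theorem xx_commute (n m : Fin 4) (h : mmul (xs.getD n.val []) (xs.getD m.val []) =
    mmul (xs.getD m.val []) (xs.getD n.val [])) : xx E n * xx E m = xx E m * xx E n := by
  refine Subtype.ext ?_
  show E.toMat _ * E.toMat _ = E.toMat _ * E.toMat _
  rw [← E.toMat_mmul, ← E.toMat_mmul, h]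

theorem perfect : commutator (Ext (bigCocycle E hF)) = ⊤ := by
  set X := Ext (bigCocycle E hF)
  have hSL : commutator SL(3, F) = ⊤ := CfsgLib.Classical.commutator_SL_eq_top (by norm_num)
  have hmap : (commutator X).map (Ext.proj : X →* SL(3, F)) = ⊤ := by
    rw [commutator_def, Subgroup.map_commutator, Subgroup.map_top_of_surjective _ Ext.proj_surjective,
      ← commutator_def, hSL]
  let B : AddSubgroup (ZMod 4 × ZMod 4) :=
    { carrier := {a | (⟨a, 1⟩ : X) ∈ commutator X}
      zero_mem' := (commutator X).one_mem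
      add_mem' := fun {a b} ha hb => by
        have := (commutator X).mul_mem ha hb
        rwa [show (⟨a, 1⟩ : X) * ⟨b, 1⟩ = ⟨a + b, 1⟩ from
          Ext.ext (by simp [Ext.mul_val, (bigCocycle E hF).one_left]) (by simp [Ext.mul_base])] at this
      neg_mem' := fun {a} ha => by
        have := (commutator X).inv_mem ha
        rwa [show (⟨a, 1⟩ : X)⁻¹ = ⟨-a, 1⟩ from
          Ext.ext (by simp [Ext.inv_def, (bigCocycle E hF).one_left]) (by simp [Ext.inv_def])] at this }
  have hw : ∀ n m : Fin 4, mmul (xs.getD n.val []) (xs.getD m.val []) =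
      mmul (xs.getD m.val []) (xs.getD n.val []) → ((List.range 315).map (term n m)).sum ∈ B := by
    intro n m h
    show (⟨_, 1⟩ : X) ∈ commutator X
    rw [← value E hF n m, ← Ext.commutator_of_commute (xx_commute E n m h), commutator_def]
    exact Subgroup.commutator_mem_commutator (Subgroup.mem_top _) (Subgroup.mem_top _)
  have h0 : ((3, 2) : ZMod 4 × ZMod 4) ∈ B := witness₀ ▸ hw 0 1 (by decide +kernel)
  have h1 : ((3, 1) : ZMod 4 × ZMod 4) ∈ B := witness₁ ▸ hw 2 3 (by decide +kernel)
  have hB : ∀ a, a ∈ B := by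
    intro a
    have key : ∀ a : ZMod 4 × ZMod 4, ∃ k l : Fin 4,
        a = k.val • ((3, 2) : ZMod 4 × ZMod 4) + l.val • ((3, 1) : ZMod 4 × ZMod 4) := by decide
    obtain ⟨k, l, rfl⟩ := key a
    exact B.add_mem (B.nsmul_mem h0 _) (B.nsmul_mem h1 _)
  refine eq_top_iff.2 fun g _ => ?_
  obtain ⟨y, hy, hyg⟩ := (hmap ▸ Subgroup.mem_top g.base : g.base ∈ (commutator X).map Ext.proj)
  rw [show g = y * (y⁻¹ * g) by group]
  refine (commutator X).mul_mem hy ?_
  have hbase : (y⁻¹ * g).base = 1 := by
    show y.base⁻¹ * g.base = 1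
    rw [show y.base = g.base from hyg, inv_mul_cancel]
  have : y⁻¹ * g = ⟨(y⁻¹ * g).val, 1⟩ := Ext.ext rfl hbase
  rw [this]
  exact hB _

end Transfer

/-- The Schur multiplier of `PSL(3, 4)`. -/
theorem hasSchurMultiplier (hF : Fintype.card F = 4) :
    Cfsg.HasSchurMultiplier (Matrix.ProjectiveSpecialLinearGroup (Fin 3) F)
      (Multiplicative (ZMod 3 × ZMod 4 × ZMod 4)) := by
  classical
  obtain ⟨D⟩ := nonempty_data hF
  let E : Four F := ⟨D.two, D.c, D.c_sq, D.cases⟩
  set X := Ext (bigCocycle E hF)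
  let π := QuotientGroup.mk' (Subgroup.center SL(3, F))
  let τ : X →* Matrix.ProjectiveSpecialLinearGroup (Fin 3) F := π.comp Ext.proj
  have hker : ∀ x : X, x ∈ τ.ker ↔ x.base ∈ Subgroup.center SL(3, F) := fun x => by
    show π x.base = 1 ↔ _
    exact QuotientGroup.eq_one_iff _
  have hstem : Cfsg.IsStemExtension τ := by
    refine ⟨(QuotientGroup.mk'_surjective _).comp Ext.proj_surjective, fun x hx => ?_, ?_⟩
    · have hb := (hker x).1 hx
      exact Ext.mem_center (fun g => Subgroup.mem_center_iff.1 hb g) (fun g => (big_center E hF hb g).1)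
        (fun g => (big_center E hF hb g).2) x.val
    · rw [perfect E hF]; exact le_top
  have hc3 : Nat.card (Subgroup.center SL(3, F)) = 3 := by
    have h3 := CfsgLib.Classical.card_SL_eq_gcd_mul_card_PSL (F := F) (ι := Fin 3)
    rw [hF, Fintype.card_fin, show Nat.gcd 3 (4 - 1) = 3 from rfl,
      Subgroup.card_eq_card_quotient_mul_card_subgroup (Subgroup.center SL(3, F)), mul_comm] at h3
    exact Nat.eq_of_mul_eq_mul_right Nat.card_pos h3
  haveI := Fact.mk Nat.prime_three
  haveI : IsCyclic (Subgroup.center SL(3, F)) := isCyclic_of_prime_card hc3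
  let ez : Subgroup.center SL(3, F) ≃* Multiplicative (ZMod 3) :=
    mulEquivOfCyclicCardEq (by rw [hc3, Nat.card_congr Multiplicative.toAdd, Nat.card_zmod])
  let fwd : τ.ker → Multiplicative (ZMod 3 × ZMod 4 × ZMod 4) := fun x =>
    Multiplicative.ofAdd ((ez ⟨(x : X).base, (hker _).1 x.2⟩).toAdd, (x : X).val)
  have hmul : ∀ x y : τ.ker, fwd (x * y) = fwd x * fwd y := by
    intro x y
    apply Multiplicative.toAdd.injective
    refine Prod.ext ?_ ?_
    · show (ez ⟨((x : X) * (y : X)).base, _⟩).toAdd = _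
      rw [show (⟨((x : X) * (y : X)).base, (hker _).1 (x * y).2⟩ : Subgroup.center SL(3, F)) =
        ⟨(x : X).base, (hker _).1 x.2⟩ * ⟨(y : X).base, (hker _).1 y.2⟩ from rfl, map_mul]
      rfl
    · show ((x : X) * (y : X)).val = (x : X).val + (y : X).val
      rw [Ext.mul_val, (big_center E hF ((hker _).1 x.2) _).1, add_zero]
  have hbij : Function.Bijective fwd := by
    constructor
    · intro x y h
      have h' := Multiplicative.ofAdd.injective h
      simp only [Prod.mk.injEq] at h'
      have hb := ez.injective (Multiplicative.toAdd.injective h'.1)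
      exact Subtype.ext (Ext.ext h'.2 (congrArg Subtype.val hb))
    · intro p
      obtain ⟨k, a⟩ := Multiplicative.toAdd p
      refine ⟨⟨⟨Multiplicative.toAdd p |>.2, (ez.symm (Multiplicative.ofAdd (Multiplicative.toAdd p).1)).1⟩,
        (hker _).2 (ez.symm _).2⟩, ?_⟩
      simp [fwd]
  refine CfsgLib.Schur.hasSchurMultiplier_of_witness τ hstem
    (MulEquiv.ofBijective (MonoidHom.mk' fwd hmul) hbij) fun Γ _ _ σ hσ => ?_
  rw [Nat.card_congr Multiplicative.toAdd, Nat.card_prod, Nat.card_prod, Nat.card_zmod, Nat.card_zmod]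
  exact card_ker_le hF σ hσ

end CfsgLib.Known.L34.Cover
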